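import Cfsg.Agent.Lib.AbelInter85.Pair

/-!
# Abelian Sylow 2-intersections: a non-normal essential subgroup and its twin

A non-normal essential `E` has a conjugate `F ≠ E` normal in `U = N_S(E) = E F`.  All involutions of
`U` lie in `E ∪ F`, so `N_S(U)` permutes `{E, F}`.
-/

set_option autoImplicit false
set_option linter.unusedSectionVars false

namespace Cfsg.Agent.Lib.AbelInter85

open Subgroup Cfsg.Agent.Lib.Fusion.Alperin

variable {G : Type*} [Group G] [Finite G] {S : Sylow 2 G} {E F : Subgroup G} {hA : AI G}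

theorem conjS_inf (g : G) (A B : Subgroup G) : conjS g (A ⊓ B) = conjS g A ⊓ conjS g B :=
  Subgroup.map_inf A B _ (MulEquiv.injective _)

theorem conjS_uS {g : G} (hg : g ∈ normalizer ((S : Subgroup G) : Set G)) (E : Subgroup G) :
    conjS g (uS S E) = uS S (conjS g E) := by
  rw [uS, conjS_inf, conjS_normalizer, conjS_eq_of_mem_normalizer hg]

theorem le_normalizer_of_mem {X : Subgroup G} {x y : G} (hy : y ∈ normalizer (X : Set G))
    (hx : x ∈ X) : y * x * y⁻¹ ∈ X := (mem_normalizer_iff.1 hy x).1 hx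

theorem Paired.conj (h : Paired hA S E F) {g : G}
    (hg : g ∈ normalizer ((S : Subgroup G) : Set G)) :
    Paired hA S (conjS g E) (conjS g F) :=
  ⟨h.ess.conj hg, h.cand.conj hg, by rw [card_conjS, card_conjS]; exact h.card_le,
    (conjS_mono h.nF).trans (conjS_normalizer g E).le,
    (conjS_mono h.nE).trans (conjS_normalizer g F).le,
    fun e => h.ne (by rw [← conjS_inv_conjS g E, e, conjS_inv_conjS])⟩

/-- Both `(E, F)` and `(F, E)` are pairs. -/
structure Twin (hA : AI G) (S : Sylow 2 G) (E F : Subgroup G) : Prop where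
  left : Paired hA S E F
  right : Paired hA S F E

namespace Twin

theorem symm (h : Twin hA S E F) : Twin hA S F E := ⟨h.right, h.left⟩

theorem conj (h : Twin hA S E F) {g : G} (hg : g ∈ normalizer ((S : Subgroup G) : Set G)) :
    Twin hA S (conjS g E) (conjS g F) := ⟨h.left.conj hg, h.right.conj hg⟩

theorem uS_le (h : Twin hA S E F) : uS S E ≤ uS S F := by
  intro u hu
  obtain ⟨e, he, f, hf, rfl⟩ := h.left.exists_mul hu
  exact mul_mem (mem_inf.2 ⟨h.left.candE.le he, h.left.nE he⟩) (h.right.candE.le_uS hf)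

theorem uS_eq (h : Twin hA S E F) : uS S F = uS S E := le_antisymm h.symm.uS_le h.uS_le

theorem exists_notMem (h : Twin hA S E F) : ∃ c ∈ E, c ∉ F ∧ c * c = 1 := by
  obtain ⟨e, he, heF⟩ := SetLike.not_le_iff_exists.1 h.right.not_le
  obtain ⟨c, hc, hcc, hce⟩ := h.left.exists_involution he
  refine ⟨c, hc, fun hcF => heF ?_, hcc⟩
  have := mul_mem hcF hce.2
  rwa [mul_inv_cancel_left] at this

/-- `C_U(e) = E` for `e ∈ E ∖ F`. -/
theorem mem_of_commute (h : Twin hA S E F) {u e : G} (hu : u ∈ uS S E) (he : e ∈ E) (heF : e ∉ F)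
    (hc : u * e = e * u) : u ∈ E := by
  obtain ⟨e₁, he₁, f, hf, rfl⟩ := h.left.exists_mul hu
  refine mul_mem he₁ ?_
  by_contra hfE
  refine heF (h.left.mem_of_commute he hf hfE ?_)
  have h1 : e₁ * (e * f) = e₁ * (f * e) := by
    calc e₁ * (e * f) = e * e₁ * f := by rw [← mul_assoc, h.left.candE.comm e₁ he₁ e he]
      _ = e * (e₁ * f) := mul_assoc _ _ _
      _ = _ := by rw [← hc, mul_assoc]
  exact mul_left_cancel h1

/-- `E ⊓ F` is the centre of `U`. -/
theorem mem_inf_iff (h : Twin hA S E F) {z : G} :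
    z ∈ E ⊓ F ↔ z ∈ uS S E ∧ ∀ u ∈ uS S E, z * u = u * z := by
  constructor
  · exact fun hz => ⟨h.left.candE.le_uS hz.1, fun u hu => h.left.commute_of_mem_inf hz hu⟩
  · rintro ⟨hz, hc⟩
    exact mem_inf.2 ⟨h.left.candE.cen z hz.1 fun x hx => hc x (h.left.candE.le_uS hx),
      h.left.cand.cen z hz.1 fun x hx => hc x (h.uS_eq ▸ h.right.candE.le_uS hx)⟩

theorem cm_mem_inf (h : Twin hA S E F) {u v : G} (hu : u ∈ uS S E) (hv : v ∈ uS S E) :
    cm u v ∈ E ⊓ F := by
  obtain ⟨e, he, f, hf, rfl⟩ := h.left.exists_mul hu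
  obtain ⟨e', he', f', hf', rfl⟩ := h.left.exists_mul hv
  have hc1 := h.left.cm_mem he' hf
  have hc2 := h.left.cm_mem he hf'
  have z1 := fun w (hw : w ∈ uS S E) => h.left.commute_of_mem_inf hc1 hw
  have z2 := fun w (hw : w ∈ uS S E) => h.left.commute_of_mem_inf (inv_mem hc1) hw
  have e1 : f * e' = (cm e' f)⁻¹ * (e' * f) := by simp only [cm]; group
  have e2 : e * f' = cm e f' * (f' * e) := by simp only [cm]; group
  have key : e * f * (e' * f') = (cm e' f)⁻¹ * cm e f' * (e' * f' * (e * f)) := by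
    calc e * f * (e' * f') = e * (f * e') * f' := by group
      _ = (cm e' f)⁻¹ * (e * (e' * f) * f') := by
          rw [e1, ← mul_assoc e, ← z2 e (h.left.candE.le_uS he)]; group
      _ = (cm e' f)⁻¹ * ((e * e') * (f * f')) := by group
      _ = (cm e' f)⁻¹ * ((e' * e) * (f' * f)) := by
          rw [h.left.candE.comm e he e' he', h.left.cand.comm f hf f' hf']
      _ = (cm e' f)⁻¹ * (e' * (e * f') * f) := by group
      _ = (cm e' f)⁻¹ * (cm e f' * (e' * (f' * e) * f)) := by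
          rw [e2, ← mul_assoc e', ← h.left.commute_of_mem_inf hc2 (h.left.candE.le_uS he')]
          group
      _ = _ := by group
  have : cm (e * f) (e' * f') = (cm e' f)⁻¹ * cm e f' := by
    rw [show cm (e * f) (e' * f') = e * f * (e' * f') * (e' * f' * (e * f))⁻¹ by
      simp only [cm]; group, key, mul_inv_cancel_right]
  rw [this]
  exact mul_mem (inv_mem hc1) hc2

/-- Involutions of `U` lie in `E ∪ F`. -/
theorem invol_mem (h : Twin hA S E F) {u : G} (hu : u ∈ uS S E) (huu : u * u = 1) :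
    u ∈ E ∨ u ∈ F := by
  obtain ⟨e, he, f, hf, rfl⟩ := h.left.exists_mul hu
  by_cases hfE : f ∈ E
  · exact Or.inl (mul_mem he hfE)
  by_cases heF : e ∈ F
  · exact Or.inr (mul_mem heF hf)
  exfalso
  obtain ⟨a, ha, haa, haz⟩ := h.left.exists_involution he
  obtain ⟨b, hb, hbb, hbz⟩ := h.right.exists_involution hf
  set z₁ := a⁻¹ * e with hz1
  set z₂ := b⁻¹ * f with hz2
  have hbz' : z₂ ∈ E ⊓ F := mem_inf.2 ⟨hbz.2, hbz.1⟩
  have hz : z₁ * z₂ ∈ E ⊓ F := mul_mem haz hbz'
  have hb' : b ∈ uS S E := mem_inf.2 ⟨h.left.cand.le hb, h.left.nF hb⟩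
  have hab : a * b ∈ uS S E := h.left.mul_mem_uS ha hb
  have hef : e * f = a * b * (z₁ * z₂) := by
    calc e * f = a * z₁ * (b * z₂) := by rw [hz1, hz2]; group
      _ = a * (z₁ * b) * z₂ := by group
      _ = a * b * (z₁ * z₂) := by rw [h.left.commute_of_mem_inf haz hb']; group
  have hcm : cm a b * (z₁ * z₂ * (z₁ * z₂)) = 1 := by
    have ha' : a⁻¹ = a := inv_eq_of_mul_eq_one_right haa
    have hb'' : b⁻¹ = b := inv_eq_of_mul_eq_one_right hbb
    calc cm a b * (z₁ * z₂ * (z₁ * z₂)) = a * b * ((a * b) * (z₁ * z₂)) * (z₁ * z₂) := by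
          rw [cm, ha', hb'']; group
      _ = a * b * ((z₁ * z₂) * (a * b)) * (z₁ * z₂) := by
          rw [h.left.commute_of_mem_inf hz hab]
      _ = e * f * (e * f) := by rw [hef]; group
      _ = 1 := huu
  have hcore : cm a b ∈ core2 E := by
    rw [eq_inv_of_mul_eq_one_left hcm]
    exact inv_mem (h.left.sq_mem_core hz)
  have hbE : b ∉ E := fun hbE => hfE (by
    have := mul_mem hbE hbz'.1
    rwa [hz2, mul_inv_cancel_left] at this)
  have haF := h.left.mem_of_cm_core ha hb hbE hcore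
  refine heF ?_
  have := mul_mem haF haz.2
  rwa [hz1, mul_inv_cancel_left] at this

/-- A self-centralising subgroup of `U` with an involution outside `Z` is `E` or `F`. -/
theorem eq_or_eq (h : Twin hA S E F) {X : Subgroup G} (hX : Cand S X) (hXU : X ≤ uS S E) {c : G}
    (hc : c ∈ X) (hcc : c * c = 1) (hcz : c ∉ E ⊓ F) : X = E ∨ X = F := by
  have key : ∀ {E F : Subgroup G}, Twin hA S E F → X ≤ uS S E → c ∈ E → c ∉ F → X = E := by
    intro E F h hXU hcE hcF
    have hle : X ≤ E := fun x hx => h.mem_of_commute (hXU hx) hcE hcF (hX.comm x hx c hc)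
    exact le_antisymm hle fun e he => hX.cen e (h.left.candE.le he) fun x hx =>
      h.left.candE.comm e he x (hle hx)
  rcases h.invol_mem (hXU hc) hcc with hcE | hcF
  · exact Or.inl (key h hXU hcE fun hcF => hcz ⟨hcE, hcF⟩)
  · exact Or.inr (key h.symm (hXU.trans h.uS_le) hcF fun hcE => hcz ⟨hcE, hcF⟩)

/-- Elements normalising `S` and `U` permute `{E, F}`. -/
theorem perm (h : Twin hA S E F) {r : G} (hr : r ∈ normalizer ((S : Subgroup G) : Set G))
    (hrU : r ∈ normalizer (uS S E : Set G)) : conjS r E = E ∨ conjS r E = F := by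
  obtain ⟨c, hc, hcF, hcc⟩ := h.exists_notMem
  refine h.eq_or_eq (h.left.candE.conj hr) ?_ (conj_mem_conjS (g := r) hc) ?_ ?_
  · exact (conjS_mono h.left.candE.le_uS).trans (conjS_eq_of_mem_normalizer hrU).le
  · calc r * c * r⁻¹ * (r * c * r⁻¹) = r * (c * c) * r⁻¹ := by group
      _ = 1 := by rw [hcc]; group
  · intro hz
    obtain ⟨-, hcen⟩ := h.mem_inf_iff.1 hz
    refine hcF (h.mem_inf_iff.2 ⟨h.left.candE.le_uS hc, fun u hu => ?_⟩).2
    have := hcen _ (le_normalizer_of_mem hrU hu)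
    calc c * u = r⁻¹ * (r * c * r⁻¹ * (r * u * r⁻¹)) * r := by group
      _ = r⁻¹ * (r * u * r⁻¹ * (r * c * r⁻¹)) * r := by rw [this]
      _ = u * c := by group

theorem mem_uS_of_fix (h : Twin hA S E F) {r : G} (hrS : r ∈ (S : Subgroup G))
    (he : conjS r E = E) : r ∈ uS S E :=
  mem_inf.2 ⟨hrS, mem_normalizer_of_conjS_eq he⟩

theorem swap (h : Twin hA S E F) {r : G} (hrS : r ∈ (S : Subgroup G))
    (hrU : r ∈ normalizer (uS S E : Set G)) (hr : r ∉ uS S E) :
    conjS r E = F ∧ conjS r F = E := by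
  have hn := (le_normalizer hrS : r ∈ normalizer ((S : Subgroup G) : Set G))
  have h1 := (h.perm hn hrU).resolve_left fun e => hr (h.mem_uS_of_fix hrS e)
  refine ⟨h1, (h.symm.perm hn (by rwa [h.uS_eq])).resolve_left fun e => ?_⟩
  exact h.left.ne (by rw [← conjS_inv_conjS r E, h1, ← e, conjS_inv_conjS, e])

theorem mul_mem_uS_of_notMem (h : Twin hA S E F) {a b : G}
    (ha : a ∈ (S : Subgroup G) ⊓ normalizer (uS S E : Set G)) (ha' : a ∉ uS S E)
    (hb : b ∈ (S : Subgroup G) ⊓ normalizer (uS S E : Set G)) (hb' : b ∉ uS S E) :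
    a * b ∈ uS S E := by
  refine h.mem_uS_of_fix (mul_mem ha.1 hb.1) ?_
  rw [conjS_mul, (h.swap hb.1 hb.2 hb').1, (h.swap ha.1 ha.2 ha').2]

end Twin

/-- A non-normal essential subgroup has a twin. -/
theorem exists_twin (hE : Ess hA S E) (hnn : ¬ (S : Subgroup G) ≤ normalizer (E : Set G)) :
    ∃ g ∈ (S : Subgroup G), g ∈ normalizer (uS S E : Set G) ∧ g ∉ uS S E ∧
      Twin hA S E (conjS g E) := by
  haveI : Fact (Nat.Prime 2) := ⟨Nat.prime_two⟩
  obtain ⟨hC, _⟩ := id hE
  have hUS : uS S E < S := lt_of_le_of_ne inf_le_left fun e => hnn (e ▸ inf_le_right)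
  obtain ⟨g, hg, hgU⟩ := SetLike.exists_of_lt (lt_inf_normalizer S.2 hUS)
  have hgS := (le_normalizer hg.1 : g ∈ normalizer ((S : Subgroup G) : Set G))
  have hne : E ≠ conjS g E := fun e => hgU (mem_inf.2 ⟨hg.1, mem_normalizer_of_conjS_eq e.symm⟩)
  have h1 : conjS g E ≤ uS S E :=
    (conjS_mono hC.le_uS).trans (conjS_eq_of_mem_normalizer hg.2).le
  have h2 : uS S (conjS g E) = uS S E := by
    rw [← conjS_uS hgS, conjS_eq_of_mem_normalizer hg.2]
  refine ⟨g, hg.1, hg.2, hgU, ⟨hE, hC.conj hgS, (card_conjS _ _).ge, h1.trans inf_le_right,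
    hC.le_uS.trans (h2.ge.trans inf_le_right), hne⟩, ⟨hE.conj hgS, hC, (card_conjS _ _).le,
    hC.le_uS.trans (h2.ge.trans inf_le_right), h1.trans inf_le_right, hne.symm⟩⟩

end Cfsg.Agent.Lib.AbelInter85
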