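import Cfsg.Agent.Lib.AbelInter85.Omega
import Cfsg.Agent.Lib.AbelInter85.Twin

/-!
# Abelian Sylow 2-intersections: no non-normal essential subgroup with `|E : Z| ≥ 4`

`U = N_S(E)` has index 2 in `S`, every essential subgroup lies in `U`, and the focal subgroup
theorem contradicts simplicity.
-/

set_option autoImplicit false
set_option linter.unusedSectionVars false

namespace Cfsg.Agent.Lib.AbelInter85

open Subgroup Cfsg.Agent.Lib.Fusion.Alperin Offender

variable {G : Type*} [Group G] [Finite G] {S : Sylow 2 G} {E F : Subgroup G} {hA : AI G}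

theorem card_le_two_mul {X Z : Subgroup G} {a : G} (h : ∀ x ∈ X, x ∈ Z ∨ a * x ∈ Z) :
    Nat.card X ≤ 2 * Nat.card Z := by
  classical
  let f : ↥X → Bool × ↥Z := fun x =>
    if hx : (x : G) ∈ Z then (true, ⟨x, hx⟩) else (false, ⟨a * x, (h x x.2).resolve_left hx⟩)
  have hf : Function.Injective f := by
    intro x y hxy
    by_cases hx : (x : G) ∈ Z <;> by_cases hy : (y : G) ∈ Z <;>
      simp only [f, hx, hy, dif_pos, dif_neg, not_false_iff, Prod.mk.injEq, Subtype.mk.injEq,
        Bool.false_eq_true, Bool.true_eq_false, false_and, true_and] at hxy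
    · exact Subtype.ext hxy
    · exact Subtype.ext (mul_left_cancel hxy)
  have := Nat.card_le_card_of_injective f hf
  simpa [Nat.card_prod] using this

namespace Twin

theorem card_inf_comm (_h : Twin hA S E F) :
    Nat.card ↥(F ⊓ E : Subgroup G) = Nat.card ↥(E ⊓ F : Subgroup G) := by
  rw [inf_comm]

theorem exists_mem_of_big (h : Twin hA S E F) (h4 : 2 * Nat.card ↥(E ⊓ F : Subgroup G) < Nat.card E)
    {V : Subgroup G} (hV : ∀ a ∈ E, ∀ b ∈ E, a ∉ V → b ∉ V → a * b ∈ V) :
    ∃ e ∈ E, e ∉ F ∧ e ∈ V := by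
  by_contra! hcon
  obtain ⟨a, ha, haF, -⟩ := h.exists_notMem
  refine absurd (card_le_two_mul (a := a) (Z := E ⊓ F) fun x hx => ?_) (not_le_of_gt h4)
  by_cases hxF : x ∈ F
  · exact Or.inl ⟨hx, hxF⟩
  · refine Or.inr ⟨mul_mem ha hx, ?_⟩
    by_contra hn
    exact hcon _ (mul_mem ha hx) hn (hV a ha x hx (hcon a ha haF) (hcon x hx hxF))

/-- The normaliser of `U` in `S` is `S`. -/
theorem le_normalizer_uS (h : Twin hA S E F)
    (h4 : 2 * Nat.card ↥(E ⊓ F : Subgroup G) < Nat.card E) :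
    (S : Subgroup G) ≤ normalizer (uS S E : Set G) := by
  haveI : Fact (Nat.Prime 2) := ⟨Nat.prime_two⟩
  by_contra hle
  set R := (S : Subgroup G) ⊓ normalizer (uS S E : Set G) with hR
  have hRS : R < S := lt_of_le_of_ne inf_le_left fun e => hle (e ▸ inf_le_right)
  obtain ⟨g, hg, hgR⟩ := SetLike.exists_of_lt (lt_inf_normalizer S.2 hRS)
  have hgS := (le_normalizer hg.1 : g ∈ normalizer ((S : Subgroup G) : Set G))
  have h' := h.conj hgS
  set E' := conjS g E with hE'
  set F' := conjS g F with hF'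
  have hU' : conjS g (uS S E) = uS S E' := conjS_uS hgS E
  have hgU : g ∉ normalizer (uS S E : Set G) := fun hn => hgR (mem_inf.2 ⟨hg.1, hn⟩)
  have hU'R : uS S E' ≤ R := by
    rw [← hU']
    exact (conjS_mono (le_inf inf_le_left le_normalizer)).trans (conjS_eq_of_mem_normalizer hg.2).le
  have hRN : R ≤ normalizer (uS S E' : Set G) := by
    rw [← hU', ← conjS_normalizer]
    exact (conjS_eq_of_mem_normalizer hg.2).ge.trans (conjS_mono inf_le_right)
  have hUR : uS S E ≤ R := le_inf inf_le_left le_normalizer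
  have hpar : ∀ a ∈ uS S E, ∀ b ∈ uS S E, a ∉ uS S E' → b ∉ uS S E' → a * b ∈ uS S E' :=
    fun a ha b hb ha' hb' => h'.mul_mem_uS_of_notMem (mem_inf.2 ⟨ha.1, hRN (hUR ha)⟩) ha'
      (mem_inf.2 ⟨hb.1, hRN (hUR hb)⟩) hb'
  obtain ⟨e₀, he₀, he₀F, he₀U⟩ := h.exists_mem_of_big h4 fun a ha b hb =>
    hpar a (h.left.candE.le_uS ha) b (h.left.candE.le_uS hb)
  obtain ⟨f₀, hf₀, hf₀E, hf₀U⟩ := h.symm.exists_mem_of_big
    (by rw [h.card_inf_comm, ← h.left.card_eq]; exact h4) fun a ha b hb =>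
    hpar a (h.uS_eq ▸ h.right.candE.le_uS ha) b (h.uS_eq ▸ h.right.candE.le_uS hb)
  have hZle : E' ⊓ F' ≤ E ⊓ F := by
    intro z hz
    obtain ⟨hzU', hzc⟩ := h'.mem_inf_iff.1 hz
    have hzU : z ∈ uS S E := by
      by_contra hn
      have hsw := (h.swap hzU'.1 (hU'R hzU').2 hn).1
      refine he₀F ?_
      rw [← hsw, mem_conjS, show z⁻¹ * e₀ * z = e₀ from ?_]
      · exact he₀
      · rw [mul_assoc, ← hzc e₀ he₀U, inv_mul_cancel_left]
    exact mem_inf.2 ⟨h.mem_of_commute hzU he₀ he₀F (hzc e₀ he₀U),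
      h.symm.mem_of_commute (h.uS_eq.symm ▸ hzU) hf₀ hf₀E (hzc f₀ hf₀U)⟩
  have hZ : E' ⊓ F' = E ⊓ F := eq_of_le_of_card_ge hZle (by
    rw [hE', hF', ← conjS_inf, card_conjS])
  have hE'U : ¬ E' ≤ uS S E := by
    intro hsub
    obtain ⟨c, hc, hcF, hcc⟩ := h'.exists_notMem
    rcases h.eq_or_eq h'.left.candE hsub hc hcc (hZ ▸ fun hc' => hcF hc'.2) with e | e
    · exact hgU (le_normalizer (h.mem_uS_of_fix hg.1 e))
    · refine hgU (mem_normalizer_of_conjS_eq ?_)
      rw [hU', e, h.uS_eq]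
  obtain ⟨x, hxE, hxU⟩ := SetLike.not_le_iff_exists.1 hE'U
  have hE'N : E' ≤ normalizer (uS S E : Set G) := fun y hy => (hU'R (h'.left.candE.le_uS hy)).2
  have hxS := h'.left.candE.le hxE
  have hxc : ∀ z ∈ E ⊓ F, x * z = z * x := fun z hz =>
    h'.left.candE.comm x hxE z (hZ ▸ hz : z ∈ E' ⊓ F').1
  have hx2 : x * x ∈ E ⊓ F := hZ ▸ h'.left.sq_mem hxE
  obtain ⟨hswE, hswF⟩ := h.swap hxS (hE'N hxE) hxU
  have hint : ∀ u ∈ E', u ∈ uS S E → u ∈ E ⊓ F := by
    intro u huE hu
    have hux : x * u * x⁻¹ = u := by rw [h'.left.candE.comm x hxE u huE, mul_inv_cancel_right]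
    obtain ⟨e, he, f, hf, rfl⟩ := h.left.exists_mul hu
    set f₁ := x * e * x⁻¹ with hf₁
    set e₁ := x * f * x⁻¹ with he₁
    have hf₁F : f₁ ∈ F := hswE ▸ conj_mem_conjS he
    have he₁E : e₁ ∈ E := hswF ▸ conj_mem_conjS hf
    have heq : f₁ * e₁ = e * f := by rw [hf₁, he₁, ← hux]; group
    set c := e₁⁻¹ * e with hc
    have hc' : e⁻¹ * f₁ * e * c⁻¹ = f := by
      calc e⁻¹ * f₁ * e * c⁻¹ = e⁻¹ * (f₁ * e₁) := by rw [hc]; group
        _ = f := by rw [heq]; group
    have hcz : c ∈ E ⊓ F := by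
      refine mem_inf.2 ⟨mul_mem (inv_mem he₁E) he, ?_⟩
      have h1 : e⁻¹ * f₁ * e ∈ F := by
        have := le_normalizer_of_mem (h.left.nE (inv_mem he)) hf₁F
        rwa [inv_inv] at this
      have h2 : c⁻¹ ∈ F := by
        rw [show c⁻¹ = (e⁻¹ * f₁ * e)⁻¹ * f from eq_inv_mul_of_mul_eq hc']
        exact mul_mem (inv_mem h1) hf
      simpa using inv_mem h2
    have hfx : x * e₁ * x⁻¹ = f := by
      have h1 := h.left.commute_of_mem_inf hx2 (h.uS_eq ▸ h.right.candE.le_uS hf : f ∈ uS S E)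
      calc x * e₁ * x⁻¹ = (x * x) * f * (x * x)⁻¹ := by rw [he₁]; group
        _ = f := by rw [h1, mul_inv_cancel_right]
    have hf₁c : f₁ = f * c := by
      rw [← hfx, show e₁ = e * c⁻¹ by rw [hc]; group]
      calc f₁ = x * e * x⁻¹ := hf₁
        _ = x * e * c⁻¹ * (c * x⁻¹) := by group
        _ = x * e * c⁻¹ * (x⁻¹ * c) := by
            rw [show c * x⁻¹ = x⁻¹ * c from by
              rw [eq_inv_mul_iff_mul_eq, ← mul_assoc, hxc c hcz, mul_inv_cancel_right]]
        _ = _ := by group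
    have hcom : e * f = f * e := by
      rw [← heq, hf₁c, show e₁ = e * c⁻¹ by rw [hc]; group]
      calc f * c * (e * c⁻¹) = f * (c * e) * c⁻¹ := by group
        _ = f * e := by rw [h.left.candE.comm c hcz.1 e he]; group
    by_cases hfE : f ∈ E
    · have huE' : e * f ∈ E := mul_mem he hfE
      have h2 := conj_mem_conjS (g := x) huE'
      rw [hswE, hux] at h2
      exact mem_inf.2 ⟨huE', h2⟩
    · have huF : e * f ∈ F := mul_mem (h.left.mem_of_commute he hf hfE hcom) hf
      have h2 := conj_mem_conjS (g := x) huF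
      rw [hswF, hux] at h2
      exact mem_inf.2 ⟨h2, huF⟩
  refine absurd (card_le_two_mul (a := x) (Z := E ⊓ F) (X := E') fun y hy => ?_) ?_
  · by_cases hyU : y ∈ uS S E
    · exact Or.inl (hint y hy hyU)
    · exact Or.inr (hint _ (mul_mem hxE hy) (h.mul_mem_uS_of_notMem
        (mem_inf.2 ⟨hxS, hE'N hxE⟩) hxU (mem_inf.2 ⟨h'.left.candE.le hy, hE'N hy⟩) hyU))
  · rw [hE', card_conjS]
    exact not_le_of_gt h4

/-- Every essential subgroup lies in `U`. -/
theorem ess_le (h : Twin hA S E F) (h4 : 2 * Nat.card ↥(E ⊓ F : Subgroup G) < Nat.card E)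
    {X : Subgroup G} (hX : Ess hA S X) : X ≤ uS S E := by
  classical
  haveI : Fact (Nat.Prime 2) := ⟨Nat.prime_two⟩
  have hSN := h.le_normalizer_uS h4
  have hXS : X ≤ (S : Subgroup G) := hX.1.le
  have hpar : ∀ a ∈ (S : Subgroup G), ∀ b ∈ (S : Subgroup G), a ∉ uS S E → b ∉ uS S E →
      a * b ∈ uS S E := fun a ha b hb ha' hb' =>
    h.mul_mem_uS_of_notMem (mem_inf.2 ⟨ha, hSN ha⟩) ha' (mem_inf.2 ⟨hb, hSN hb⟩) hb'
  by_contra hle
  obtain ⟨x₀, hx₀, hx₀U⟩ := SetLike.not_le_iff_exists.1 hle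
  have hswap : ∀ {y : G}, y ∈ (S : Subgroup G) → y ∉ uS S E →
      conjS y E = F ∧ conjS y F = E := fun hy hyU => h.swap hy (hSN hy) hyU
  -- involutions of `X` inside `U` are central in `U`
  have hcent : ∀ v ∈ X, v * v = 1 → v ∈ uS S E → v ∈ E ⊓ F := by
    intro v hv hvv hvU
    have hv0 : x₀ * v * x₀⁻¹ = v := by rw [hX.1.comm x₀ hx₀ v hv, mul_inv_cancel_right]
    obtain ⟨s1, s2⟩ := hswap (hXS hx₀) hx₀U
    rcases h.invol_mem hvU hvv with he | hf
    · have := conj_mem_conjS (g := x₀) he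
      rw [s1, hv0] at this
      exact mem_inf.2 ⟨he, this⟩
    · have := conj_mem_conjS (g := x₀) hf
      rw [s2, hv0] at this
      exact mem_inf.2 ⟨this, hf⟩
  by_cases hinv : ∃ x ∈ X, x ∉ uS S E ∧ x * x = 1
  swap
  · push Not at hinv
    refine (not_le_of_gt hX.1.lt_uS) fun u hu => ?_
    have hfix : ∀ w ∈ uS S X, w ∈ uS S E → w ∈ X := fun w hw hwU =>
      hX.mem_of_fix hw fun v hv hvv => by
        have hvU : v ∈ uS S E := by_contra fun hn => hinv v hv hn hvv
        exact (h.left.commute_of_mem_inf (hcent v hv hvv hvU) hwU).symm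
    by_cases huU : u ∈ uS S E
    · exact hfix u hu huU
    · have h1 := hfix (x₀ * u) (mul_mem (hX.1.le_uS hx₀) hu) (hpar _ (hXS hx₀) u hu.1 hx₀U huU)
      have := mul_mem (inv_mem hx₀) h1
      rwa [inv_mul_cancel_left] at this
  obtain ⟨x, hxX, hxU, hxx⟩ := hinv
  have hxi : x⁻¹ = x := inv_eq_of_mul_eq_one_right hxx
  obtain ⟨hswE, hswF⟩ := hswap (hXS hxX) hxU
  obtain ⟨hC, l₀, hl₀⟩ := id hX
  -- elements of `N_S(X)` centralise the involutions of `X` in `U`
  have hfixU : ∀ v ∈ X, v * v = 1 → v ∈ uS S E → ∀ n ∈ (S : Subgroup G), n * v = v * n := by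
    intro v hv hvv hvU n hn
    have hz := hcent v hv hvv hvU
    by_cases hnU : n ∈ uS S E
    · exact (h.left.commute_of_mem_inf hz hnU).symm
    · have h1 : v * (x * n) = (x * n) * v :=
        h.left.commute_of_mem_inf hz (hpar x (hXS hxX) n hn hxU hnU)
      rw [← mul_assoc, hX.1.comm v hv x hxX, mul_assoc, mul_assoc] at h1
      exact (mul_left_cancel h1).symm
  letI := omegaAction hC
  set P := hC.sylL hA with hP
  have hPfix : ∀ (w : ↥(omega hC)), ((w : ↥X) : G) ∈ uS S E →
      w ∈ fixW (P : Subgroup ↥(aut X)) := by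
    intro w hw a ha
    obtain ⟨n, hn, rfl⟩ := (hC.mem_sylL hA).1 ha
    refine Subtype.ext (Subtype.ext ?_)
    change n * ((w : ↥X) : G) * n⁻¹ = _
    rw [hfixU _ (w : ↥X).2 (congrArg Subtype.val w.2) hw n hn.1, mul_inv_cancel_right]
  set xw : ↥(omega hC) := ⟨⟨x, hxX⟩, Subtype.ext hxx⟩ with hxw
  have hoff : Offender.Hyp ↥(omega hC) P (P : Subgroup ↥(aut X)) := by
    refine ⟨fun a b => Subtype.ext (Subtype.ext (hC.comm _ (a : ↥X).2 _ (b : ↥X).2)),
      fun l hl => eq_one_of_fix hX fun v hv => congrArg Subtype.val (hl ⟨v, hv⟩),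
      hC.ti hA, le_rfl, ?_, ?_, ?_, ⟨l₀, hl₀⟩⟩
    · intro e
      refine (not_le_of_gt hC.lt_uS) fun u hu => hC.cen u hu.1 fun y hy => ?_
      have h1 := hC.autOf_mem_sylL hA hu
      rw [← hP, e, mem_bot, autOf_eq_one_iff] at h1
      exact (mem_centralizer_iff.1 h1 y hy).symm
    · intro a ha v
      apply hPfix
      obtain ⟨n, hn, rfl⟩ := (hC.mem_sylL hA).1 ha
      change ((v : ↥X) : G)⁻¹ * (n * ((v : ↥X) : G) * n⁻¹) ∈ uS S E
      have hvS : ((v : ↥X) : G) ∈ (S : Subgroup G) := hXS (v : ↥X).2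
      by_cases hvU : ((v : ↥X) : G) ∈ uS S E
      · exact mul_mem (inv_mem hvU) (le_normalizer_of_mem (hSN hn.1) hvU)
      · exact hpar _ (inv_mem hvS) _ (mul_mem (mul_mem hn.1 hvS) (inv_mem hn.1))
          (fun h' => hvU (by simpa using inv_mem h')) fun h' => hvU
            ((mem_normalizer_iff.1 (hSN hn.1) _).2 h')
    · have hPne : 2 ≤ Nat.card (P : Subgroup ↥(aut X)) := by
        have : (P : Subgroup ↥(aut X)) ≠ ⊥ := by
          intro e
          refine (not_le_of_gt hC.lt_uS) fun u hu => hC.cen u hu.1 fun y hy => ?_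
          have h1 := hC.autOf_mem_sylL hA hu
          rw [← hP, e, mem_bot, autOf_eq_one_iff] at h1
          exact (mem_centralizer_iff.1 h1 y hy).symm
        exact (Subgroup.one_lt_card_iff_ne_bot _).2 this
      set W₀ : Subgroup ↥(omega hC) := (uS S E).comap (X.subtype.comp (omega hC).subtype) with hW₀
      have hW₀2 : W₀.index ≤ 2 := by
        have : W₀.index = 2 := by
          rw [Subgroup.index_eq_two_iff]
          refine ⟨xw, fun b => ?_⟩
          by_cases hb : ((b : ↥X) : G) ∈ uS S E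
          · refine Or.inr ⟨hb, fun hbx => hxU ?_⟩
            change ((b : ↥X) : G) * x ∈ uS S E at hbx
            have := mul_mem (inv_mem hb) hbx
            rwa [inv_mul_cancel_left] at this
          · exact Or.inl ⟨hpar _ (hXS (b : ↥X).2) x (hXS hxX) hb hxU, hb⟩
        exact this.le
      refine (le_trans ?_ hW₀2).trans hPne
      exact Nat.le_of_dvd (Nat.pos_of_ne_zero Subgroup.FiniteIndex.index_ne_zero)
        (Subgroup.index_dvd_of_le fun w hw => hPfix w hw)
  have hxW : xw ∉ fixW (P : Subgroup ↥(aut X)) := by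
    intro hxf
    refine hoff.ne ((Subgroup.eq_bot_iff_forall _).2 fun a ha => hoff.faith a fun w => ?_)
    by_cases hw : ((w : ↥X) : G) ∈ uS S E
    · exact hPfix w hw a ha
    · have h1 := hPfix (xw * w) (hpar x (hXS hxX) _ (hXS (w : ↥X).2) hxU hw) a ha
      rw [smul_mul', hxf a ha] at h1
      exact mul_left_cancel h1
  -- so `P` has order two
  have hP2 : Nat.card (P : Subgroup ↥(aut X)) ≤ 2 := by
    rw [← hoff.index_fixW]
    refine le_trans (Nat.le_of_dvd (Nat.pos_of_ne_zero Subgroup.FiniteIndex.index_ne_zero)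
      (Subgroup.index_dvd_of_le (H := (uS S E).comap (X.subtype.comp (omega hC).subtype))
        fun w hw => hPfix w hw)) (le_of_eq ?_)
    rw [Subgroup.index_eq_two_iff]
    refine ⟨xw, fun b => ?_⟩
    by_cases hb : ((b : ↥X) : G) ∈ uS S E
    · refine Or.inr ⟨hb, fun hbx => hxU ?_⟩
      change ((b : ↥X) : G) * x ∈ uS S E at hbx
      have := mul_mem (inv_mem hb) hbx
      rwa [inv_mul_cancel_left] at this
    · exact Or.inl ⟨hpar _ (hXS (b : ↥X).2) x (hXS hxX) hb hxU, hb⟩
  obtain ⟨a₀, ha₀, ha₀1⟩ := (P : Subgroup ↥(aut X)).bot_or_exists_ne_one.resolve_left hoff.ne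
  set d : G := (((br a₀ xw : ↥(omega hC)) : ↥X) : G) with hd
  have hd2 : ∀ n (hn : n ∈ uS S X), x⁻¹ * (n * x * n⁻¹) = 1 ∨ x⁻¹ * (n * x * n⁻¹) = d := by
    intro n hn
    by_cases he : autOf X hn.2 = 1
    · left
      rw [mem_centralizer_iff.1 ((autOf_eq_one_iff _).1 he) x hxX |>.symm, mul_inv_cancel_right,
        inv_mul_cancel]
    · right
      have : autOf X hn.2 = a₀ := by
        by_contra hne
        have hinj : Function.Injective (![⟨1, one_mem _⟩, ⟨a₀, ha₀⟩,
            ⟨autOf X hn.2, hC.autOf_mem_sylL hA hn⟩] : Fin 3 → (P : Subgroup ↥(aut X))) := by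
          intro i j hij
          fin_cases i <;> fin_cases j <;> first
            | rfl
            | (exfalso
               simp [Subtype.ext_iff, ha₀1, Ne.symm ha₀1, he, Ne.symm he, hne, Ne.symm hne] at hij)
        have := Nat.card_le_card_of_injective _ hinj
        rw [Nat.card_fin] at this
        omega
      rw [hd, ← this]
      rfl
  have hd1 : d ≠ 1 := by
    intro he
    have hfx : a₀ • xw = xw := by
      refine br_eq_one_iff.1 (Subtype.ext (Subtype.ext ?_))
      exact he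
    refine hxW (hoff.mem_fixW_of_br (x := l₀) hl₀ ha₀ ha₀1 ?_)
    rw [br_eq_one_iff.2 hfx]
    exact one_mem _
  have hdU : d ∈ uS S E ∧ d * d = 1 ∧ d ∈ X := by
    refine ⟨?_, congrArg Subtype.val (br a₀ xw : ↥(omega hC)).2, (br a₀ xw : ↥(omega hC)).1.2⟩
    obtain ⟨n, hn, rfl⟩ := (hC.mem_sylL hA).1 ha₀
    change x⁻¹ * (n * x * n⁻¹) ∈ uS S E
    exact hpar _ (inv_mem (hXS hxX)) _ (mul_mem (mul_mem hn.1 (hXS hxX)) (inv_mem hn.1))
      (fun h' => hxU (by simpa using inv_mem h'))
      fun h' => hxU ((mem_normalizer_iff.1 (hSN hn.1) _).2 h')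
  have hdz : d ∈ E ⊓ F := hcent d hdU.2.2 hdU.2.1 hdU.1
  -- two independent involutions of `E`
  obtain ⟨e, he, heF, hee⟩ := h.exists_notMem
  obtain ⟨e', he', he'F, hee', hee'F⟩ : ∃ e' ∈ E, e' ∉ F ∧ e' * e' = 1 ∧ e * e' ∉ F := by
    obtain ⟨y, hy, hyF, hyF'⟩ : ∃ y ∈ E, y ∉ F ∧ e * y ∉ F := by
      by_contra! hcon
      refine absurd (card_le_two_mul (a := e) (Z := E ⊓ F) fun y hy => ?_) (not_le_of_gt h4)
      by_cases hyF : y ∈ F
      · exact Or.inl ⟨hy, hyF⟩
      · exact Or.inr ⟨mul_mem he hy, hcon y hy hyF⟩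
    obtain ⟨c, hc, hcc, hcy⟩ := h.left.exists_involution hy
    refine ⟨c, hc, fun hcF => hyF ?_, hcc, fun hcF => hyF' ?_⟩
    · have := mul_mem hcF hcy.2
      rwa [mul_inv_cancel_left] at this
    · have := mul_mem hcF hcy.2
      rwa [mul_assoc, mul_inv_cancel_left] at this
  have hσ : ∀ {y : G}, y ∈ E → x * y * x ∈ F := fun {y} hy => by
    have := conj_mem_conjS (g := x) hy
    rwa [hswE, hxi] at this
  have hσσ : ∀ y : G, x * (x * y * x) * x = y := fun y => by
    calc x * (x * y * x) * x = (x * x) * y * (x * x) := by group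
      _ = y := by rw [hxx, one_mul, mul_one]
  have hσmul : ∀ y z : G, x * (y * z) * x = (x * y * x) * (x * z * x) := fun y z => by
    calc x * (y * z) * x = x * y * (x * x) * (z * x) := by rw [hxx, mul_one]; group
      _ = _ := by group
  have hσinv : ∀ y : G, x * y⁻¹ * x = (x * y * x)⁻¹ := fun y => by
    rw [mul_inv_rev, mul_inv_rev, hxi, mul_assoc]
  have hcmσ : ∀ y z : G, x * cm y z * x = cm (x * y * x) (x * z * x) := fun y z => by
    simp only [cm, hσmul, hσinv]
  -- an element of `U` moving `x` by an involution of `Z` fixed by `x` normalises `X`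
  have hnorm : ∀ u ∈ uS S E, ∀ q ∈ E ⊓ F, q * q = 1 → x * q * x = q → x * u * x = u * q →
      u ∈ uS S X ∧ u * x * u⁻¹ = x * q := by
    intro u hu q hq hqq hqx hux
    have hqu := h.left.commute_of_mem_inf hq hu
    have h1 : u * x * u⁻¹ = x * q := by
      have e1 : u * x = x * (u * q) := by rw [← hux, ← mul_assoc, ← mul_assoc, hxx, one_mul]
      rw [e1, ← hqu]; group
    have hinX : ∀ c ∈ E ⊓ F, x * c * x = c → c ∈ X := by
      intro c hc hcx
      refine hC.cen c (h.left.candE.le hc.1) fun y hy => ?_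
      have hcx' : c * x = x * c := by
        calc c * x = x * c * x * x := by rw [hcx]
          _ = x * c := by rw [mul_assoc, hxx, mul_one]
      by_cases hyU : y ∈ uS S E
      · exact h.left.commute_of_mem_inf hc hyU
      · have h2 := h.left.commute_of_mem_inf hc (hpar x (hXS hxX) y (hXS hy) hxU hyU)
        rw [← mul_assoc, hcx', mul_assoc, mul_assoc] at h2
        exact mul_left_cancel h2
    refine ⟨mem_inf.2 ⟨hu.1, mem_normalizer_fintype fun y hy => ?_⟩, h1⟩
    have hj : ∀ j ∈ X, j ∈ uS S E → u * j * u⁻¹ ∈ X := by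
      intro j hj hjU
      have hc := h.cm_mem_inf hu hjU
      rw [show u * j * u⁻¹ = cm u j * j by simp only [cm]; group]
      refine mul_mem (hinX _ hc ?_) hj
      have hjx : x * j * x = j := by
        rw [hC.comm x hxX j hj, mul_assoc, hxx, mul_one]
      rw [hcmσ, hux, hjx]
      simp only [cm]
      calc u * q * j * (u * q)⁻¹ * j⁻¹ = u * (q * j) * q⁻¹ * u⁻¹ * j⁻¹ := by group
        _ = u * j * u⁻¹ * j⁻¹ := by
            rw [h.left.commute_of_mem_inf hq hjU]; group
    by_cases hyU : y ∈ uS S E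
    · exact hj y hy hyU
    · have h2 := hj _ (mul_mem hxX hy) (hpar x (hXS hxX) y (hXS hy) hxU hyU)
      have h3 : u * x * u⁻¹ ∈ X := by rw [h1]; exact mul_mem hxX (hinX q hq hqx)
      have := mul_mem (inv_mem h3) h2
      rwa [show (u * x * u⁻¹)⁻¹ * (u * (x * y) * u⁻¹) = u * y * u⁻¹ by group] at this
  -- every `[c, xcx]` is `d`
  have hq : ∀ c ∈ E, c ∉ F → c * c = 1 → cm c (x * c * x) = d := by
    intro c hc hcF hcc
    set f := x * c * x with hf
    have hfF : f ∈ F := hσ hc
    set q := cm c f with hq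
    have hqz : q ∈ E ⊓ F := h.left.cm_mem hc hfF
    have hqq : q * q = 1 := h.left.cm_sq hc hfF
    have hqi : q⁻¹ = q := inv_eq_of_mul_eq_one_right hqq
    have hqx : x * q * x = q := by
      rw [hq, hcmσ, ← hf, hσσ, ← cm_inv, ← hq, hqi]
    have hu : c * f ∈ uS S E := h.left.mul_mem_uS hc hfF
    have hux : x * (c * f) * x = c * f * q := by
      rw [hσmul, ← hf, hσσ]
      calc f * c = c * f * (cm f⁻¹ c⁻¹)  := by simp only [cm]; group
        _ = c * f * q := by
            congr 1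
            have hci : c⁻¹ = c := inv_eq_of_mul_eq_one_right hcc
            have hff : f⁻¹ = f := by rw [hf, ← hσinv, hci]
            rw [hff, hci, ← cm_inv, ← hq, hqi]
    obtain ⟨hn, hnx⟩ := hnorm _ hu q hqz hqq hqx hux
    have h3 := hd2 _ hn
    rw [hnx, inv_mul_cancel_left] at h3
    refine h3.resolve_left fun h1 => hcF ?_
    refine h.left.mem_of_commute hc hfF (fun hfE => hcF ?_) (cm_eq_one_iff.1 h1)
    have := conj_mem_conjS (g := x) hfE
    rwa [hswE, hxi, hf, hσσ] at this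
  set f := x * e * x with hf
  set f' := x * e' * x with hf'
  have hfF : f ∈ F := hσ he
  have hf'F : f' ∈ F := hσ he'
  set w := cm e f' with hw
  have hwz : w ∈ E ⊓ F := h.left.cm_mem he hf'F
  have hee'2 : e * e' * (e * e') = 1 := by
    rw [mul_assoc, ← mul_assoc e', h.left.candE.comm e' he' e he, mul_assoc e e' e', hee', mul_one,
      hee]
  have hdd : d * d = 1 := hdU.2.1
  have hσw : x * w * x = w * d := by
    have hwi : x * w * x = cm e' f := by
      rw [hw, hcmσ, ← hf, hf', hσσ, ← cm_inv]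
      exact inv_eq_of_mul_eq_one_right (h.left.cm_sq he' hfF)
    have hw' : cm e' f ∈ E ⊓ F := h.left.cm_mem he' hfF
    have h1 : cm (e * e') (f * f') = d := by
      rw [hf, hf', ← hσmul]; exact hq _ (mul_mem he he') hee'F hee'2
    rw [h.left.cm_mul_left he he' (mul_mem hfF hf'F), h.left.cm_mul_right he hfF hf'F,
      h.left.cm_mul_right he' hfF hf'F, hf, hq e he heF hee, hf', hq e' he' he'F hee', ← hf', ← hw,
      ← hf] at h1
    have hcd : d * w = w * d := h.left.candE.comm d hdz.1 w hwz.1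
    have hcd' : d * cm e' f = cm e' f * d := h.left.candE.comm d hdz.1 _ hw'.1
    have h2 : w * cm e' f = d := by
      calc w * cm e' f = (d * d) * (w * cm e' f) * 1 := by rw [hdd, one_mul, mul_one]
        _ = d * (d * w * (cm e' f * d)) * d := by rw [← hdd]; group
        _ = d * d * d := by rw [h1]
        _ = d := by rw [hdd, one_mul]
    rw [hwi, ← h2, ← mul_assoc, h.left.cm_sq he hf'F, one_mul]
  have hef : f * e = d * (e * f) := by
    have : cm e f = d := hq e he heF hee
    calc f * e = (cm e f)⁻¹ * (e * f) := by simp only [cm]; group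
      _ = _ := by rw [this, inv_eq_of_mul_eq_one_right hdd]
  obtain ⟨i, hi⟩ : ∃ i, i = e * f * w := ⟨_, rfl⟩
  have hef' : e * f ∈ uS S E := h.left.mul_mem_uS he hfF
  have hiU : i ∈ uS S E := hi ▸ mul_mem hef' (h.left.candE.le_uS hwz.1)
  have hix : x * i * x = i := by
    rw [hi, hσmul, hσmul, ← hf, hf, hσσ, ← hf, hσw]
    calc f * e * (w * d) = d * (e * f * w) * d := by rw [hef]; group
      _ = d * i * d := by rw [← hi]
      _ = i * (d * d) := by rw [h.left.commute_of_mem_inf hdz hiU, mul_assoc]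
      _ = e * f * w := by rw [hdd, mul_one, hi]
  obtain ⟨hn, -⟩ := hnorm i hiU 1 (one_mem _) (one_mul 1) (by rw [mul_one, hxx]) (by
    rw [hix, mul_one])
  have hiX : i ∈ X := by
    refine hX.mem_of_fix hn fun v hv hvv => ?_
    by_cases hvU : v ∈ uS S E
    · exact hfixU v hv hvv hvU i hiU.1
    · have h1 : x * v * (x * v) = 1 := by
        rw [mul_assoc, ← mul_assoc v, hC.comm v hv x hxX, mul_assoc x v v, hvv, mul_one, hxx]
      have h2 := hfixU (x * v) (mul_mem hxX hv) h1 (hpar x (hXS hxX) v (hXS hv) hxU hvU) i hiU.1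
      have hxi' : i * x = x * i := by
        calc i * x = x * i * x * x := by rw [hix]
          _ = x * i := by rw [mul_assoc, hxx, mul_one]
      rw [← mul_assoc, hxi', mul_assoc, mul_assoc] at h2
      exact mul_left_cancel h2
  have hii : i * i = d := by
    rw [hi]
    calc e * f * w * (e * f * w) = e * f * (w * (e * f)) * w := by group
      _ = e * f * (e * f) * (w * w) := by rw [h.left.commute_of_mem_inf hwz hef']; group
      _ = d := by
          rw [h.left.cm_sq he hf'F, mul_one, ← hq e he heF hee, cm]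
          have hei : e⁻¹ = e := inv_eq_of_mul_eq_one_right hee
          rw [show f⁻¹ = f by rw [hf, ← hσinv, hei], hei, ← hf]
          group
  -- `d` is moved outside `U`, but squares lie in `U`
  obtain ⟨l, hl⟩ : ∃ l : ↥(aut X), ((l • (⟨d, hdU.2.2⟩ : ↥X) : ↥X) : G) ∉ uS S E := by
    by_contra! hall
    refine hxW (hoff.mem_fixW_of_br (x := l₀) hl₀ ha₀ ha₀1 (mem_inf.2 ⟨hoff.quad a₀ ha₀ xw, ?_⟩))
    exact hPfix _ (hall l₀⁻¹)
  refine hl ?_
  have hsq : (⟨d, hdU.2.2⟩ : ↥X) = ⟨i, hiX⟩ * ⟨i, hiX⟩ := Subtype.ext hii.symm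
  rw [hsq, smul_mul', Subgroup.coe_mul]
  set y := ((l • (⟨i, hiX⟩ : ↥X) : ↥X) : G)
  by_cases hyU : y ∈ uS S E
  · exact mul_mem hyU hyU
  · exact hpar y (hXS (l • (⟨i, hiX⟩ : ↥X) : ↥X).2) y (hXS (l • (⟨i, hiX⟩ : ↥X) : ↥X).2) hyU hyU

/-- No such subgroup in a simple group. -/
theorem false_of_big [IsSimpleGroup G] (hG : ¬ IsMulCommutative G)
    (hna : ¬ IsMulCommutative ↥(S : Subgroup G)) (h : Twin hA S E F)
    (hnn : ¬ (S : Subgroup G) ≤ normalizer (E : Set G))
    (h4 : 2 * Nat.card ↥(E ⊓ F : Subgroup G) < Nat.card E) : False := by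
  have hSN := h.le_normalizer_uS h4
  have hSU : (S : Subgroup G) ≤ uS S E := by
    refine sylow_le_of hG hA hna _ (fun n hn x hx => ?_) fun X hX n hn x hx => ?_
    · have hnU : conjS n (uS S E) = uS S E := by
        obtain ⟨c, hc, hcF, hcc⟩ := h.exists_notMem
        have hX := h.ess_le h4 (h.left.ess.conj hn)
        have hcn : n * c * n⁻¹ ∉ E ⊓ F := by
          intro hz
          refine hnn fun s hs => ?_
          by_contra hsN
          have hsU : s ∉ uS S E := fun hh => hsN hh.2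
          have hsw := (h.swap hs (hSN hs) hsU).1
          have hns : n * s * n⁻¹ ∈ (S : Subgroup G) := le_normalizer_of_mem hn hs
          have hcom : ∀ u ∈ uS S E, n * c * n⁻¹ * u = u * (n * c * n⁻¹) := fun u hu =>
            h.left.commute_of_mem_inf hz hu
          have hCS : ∀ t ∈ (S : Subgroup G), c * t = t * c → t ∈ E := by
            intro t ht htc
            have htU : t ∈ uS S E := by
              by_contra htU
              refine hcF ?_
              rw [← (h.swap ht (hSN ht) htU).1, mem_conjS, mul_assoc, htc, inv_mul_cancel_left]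
              exact hc
            exact h.mem_of_commute htU hc hcF htc.symm
          have hle : uS S E ≤ conjS n E := by
            intro u hu
            rw [mem_conjS]
            refine hCS _ ((mem_normalizer_iff''.1 hn u).1 hu.1) ?_
            calc c * (n⁻¹ * u * n) = n⁻¹ * (n * c * n⁻¹ * u) * n := by group
              _ = n⁻¹ * (u * (n * c * n⁻¹)) * n := by rw [hcom u hu]
              _ = _ := by group
          have h1 := card_le_of_le hle
          rw [card_conjS] at h1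
          exact h.left.candE.lt_uS.ne (eq_of_le_of_card_ge h.left.candE.le_uS h1)
        rcases h.eq_or_eq (h.left.candE.conj hn) hX (conj_mem_conjS (g := n) hc)
            (by
              calc n * c * n⁻¹ * (n * c * n⁻¹) = n * (c * c) * n⁻¹ := by group
                _ = 1 := by rw [hcc]; group) hcn with e | e
        · rw [conjS_uS hn, e]
        · rw [conjS_uS hn, e, h.uS_eq]
      have hnn' : n ∈ normalizer (uS S E : Set G) := mem_normalizer_of_conjS_eq hnU
      by_cases hxU : x ∈ uS S E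
      · exact mul_mem hxU (inv_mem (le_normalizer_of_mem hnn' hxU))
      · have hy : n * x * n⁻¹ ∈ (S : Subgroup G) := le_normalizer_of_mem hn hx
        have hyU : n * x * n⁻¹ ∉ uS S E := fun hh => hxU ((mem_normalizer_iff.1 hnn' x).2 hh)
        exact h.mul_mem_uS_of_notMem (mem_inf.2 ⟨hx, hSN hx⟩) hxU
          (mem_inf.2 ⟨inv_mem hy, hSN (inv_mem hy)⟩) fun hh => hyU (by simpa using inv_mem hh)
    · exact mul_mem (h.ess_le h4 hX hx)
        (inv_mem (h.ess_le h4 hX ((mem_normalizer_iff.1 hn x).1 hx)))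
  exact hnn fun s hs => (hSU hs).2

end Twin

end Cfsg.Agent.Lib.AbelInter85
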