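import Cfsg.Agent.Lib.Fusion.Alperin
import Cfsg.Agent.Lib.Transfer.Fusion
import Cfsg.Prelude.Def_TwoFusion
import Mathlib.GroupTheory.Subgroup.Centralizer
import Mathlib.GroupTheory.GroupAction.Basic

/-!
# Abelian Sylow 2-intersections: the fusion set-up

If distinct Sylow 2-subgroups meet in abelian groups, fusion in `S` is generated by `N(S)` and by the
normalisers of the self-centralising abelian subgroups `E < S` whose automiser has two Sylow
2-subgroups; these Sylow subgroups meet trivially.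
-/

set_option autoImplicit false
set_option linter.unusedSectionVars false

namespace Cfsg.Agent.Lib.AbelInter85

open Subgroup Cfsg.Agent.Lib.Fusion.Alperin

variable {G : Type*} [Group G]

/-- Distinct Sylow 2-subgroups meet in abelian subgroups. -/
def AI (G : Type*) [Group G] : Prop :=
  ∀ S T : Sylow 2 G, S ≠ T → IsMulCommutative ↥((S : Subgroup G) ⊓ (T : Subgroup G))

/-- An abelian subgroup `E < S` with `C_S(E) = E`. -/
structure Cand (S : Sylow 2 G) (E : Subgroup G) : Prop where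
  lt : E < S
  comm : ∀ x ∈ E, ∀ y ∈ E, x * y = y * x
  cen : ∀ s ∈ (S : Subgroup G), (∀ x ∈ E, s * x = x * s) → s ∈ E

/-- `N_S(E)`. -/
abbrev uS (S : Sylow 2 G) (E : Subgroup G) : Subgroup G :=
  (S : Subgroup G) ⊓ normalizer (E : Set G)

theorem eq_of_nonabelian (hA : AI G) {S T : Sylow 2 G} {a b : G} (ha : a ∈ (S : Subgroup G))
    (ha' : a ∈ (T : Subgroup G)) (hb : b ∈ (S : Subgroup G)) (hb' : b ∈ (T : Subgroup G))
    (hab : a * b ≠ b * a) : S = T := by
  by_contra hne
  have := (hA S T hne).is_comm.comm ⟨a, mem_inf.2 ⟨ha, ha'⟩⟩ ⟨b, mem_inf.2 ⟨hb, hb'⟩⟩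
  exact hab (congrArg Subtype.val this)

theorem mem_normalizer_of_nonabelian (hA : AI G) {S : Sylow 2 G} {g a b : G}
    (ha : a ∈ (S : Subgroup G)) (ha' : g * a * g⁻¹ ∈ (S : Subgroup G))
    (hb : b ∈ (S : Subgroup G)) (hb' : g * b * g⁻¹ ∈ (S : Subgroup G))
    (hab : a * b ≠ b * a) : g ∈ normalizer ((S : Subgroup G) : Set G) := by
  refine Sylow.smul_eq_iff_mem_normalizer.1 ?_
  have hm : ∀ {c : G}, c ∈ (S : Subgroup G) → g * c * g⁻¹ ∈ ((g • S : Sylow 2 G) : Subgroup G) :=
    fun {c} hc => Subgroup.smul_mem_pointwise_smul _ (MulAut.conj g) _ hc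
  refine eq_of_nonabelian hA (hm ha) ha' (hm hb) hb' fun h => hab ?_
  exact (MulAut.conj g).injective (by simpa using h)

variable [Finite G]

theorem mem_of_twoElement_normalizer (S : Sylow 2 G) {g : G} {k : ℕ} (hk : g ^ 2 ^ k = 1)
    (hg : g ∈ normalizer ((S : Subgroup G) : Set G)) : g ∈ (S : Subgroup G) := by
  have hp : IsPGroup 2 (zpowers g) := by
    rintro ⟨_, i, rfl⟩
    refine ⟨k, Subtype.ext ?_⟩
    simp only [SubmonoidClass.coe_pow, OneMemClass.coe_one]
    rw [← zpow_natCast, ← zpow_mul, mul_comm, zpow_mul, zpow_natCast, hk, one_zpow]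
  have h := IsPGroup.to_sup_of_normal_right' hp S.2 (zpowers_le.2 hg)
  exact S.3 h le_sup_right ▸ mem_sup_left (mem_zpowers g)

namespace Cand

variable {S : Sylow 2 G} {E : Subgroup G}

theorem le (hC : Cand S E) : E ≤ (S : Subgroup G) := hC.lt.le

theorem le_uS (hC : Cand S E) : E ≤ uS S E := le_inf hC.le le_normalizer

theorem lt_uS (hC : Cand S E) : E < uS S E :=
  haveI : Fact (Nat.Prime 2) := ⟨Nat.prime_two⟩
  lt_inf_normalizer S.2 hC.lt

theorem exists_noncomm (hC : Cand S E) : ∃ a ∈ uS S E, ∃ b ∈ E, a * b ≠ b * a := by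
  obtain ⟨a, ha, ha'⟩ := SetLike.exists_of_lt hC.lt_uS
  by_contra! h
  exact ha' (hC.cen a ha.1 (h a ha))

/-- The only Sylow subgroup above `N_S(E)` is `S`. -/
theorem eq_of_le (hA : AI G) (hC : Cand S E) {T : Sylow 2 G} (h : uS S E ≤ T) : T = S := by
  obtain ⟨a, ha, b, hb, hab⟩ := hC.exists_noncomm
  exact eq_of_nonabelian hA (h ha) ha.1 (h (hC.le_uS hb)) (hC.le hb) hab

theorem normalizer_uS_le (hA : AI G) (hC : Cand S E) :
    normalizer (uS S E : Set G) ≤ normalizer ((S : Subgroup G) : Set G) := by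
  intro g hg
  obtain ⟨a, ha, b, hb, hab⟩ := hC.exists_noncomm
  exact mem_normalizer_of_nonabelian hA ha.1 ((mem_normalizer_iff.1 hg a).1 ha).1 (hC.le hb)
    ((mem_normalizer_iff.1 hg b).1 (hC.le_uS hb)).1 hab

theorem le_of_pGroup (hA : AI G) (hC : Cand S E) {X : Subgroup G} (hX : IsPGroup 2 X)
    (hXN : X ≤ normalizer (E : Set G)) (h : uS S E ≤ X) : X = uS S E := by
  obtain ⟨T, hT⟩ := hX.exists_le_sylow
  have := hC.eq_of_le hA (h.trans hT)
  subst this
  exact le_antisymm (le_inf hT hXN) h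

/-- A 2-element of `C(E)` lies in `E`. -/
theorem mem_of_centralizes (hA : AI G) (hC : Cand S E) {X : Subgroup G} (hX : IsPGroup 2 X)
    (hXO : X ≤ centralizer (E : Set G)) : X ≤ E := by
  haveI : Fact (Nat.Prime 2) := ⟨Nat.prime_two⟩
  obtain ⟨n, hn, hnX⟩ := exists_conj_le_of_maximal (N := normalizer (E : Set G)) (S := uS S E)
    (S.2.to_le inf_le_left) inf_le_right (fun U hU hUN h => hC.le_of_pGroup hA hU hUN h)
    hX (hXO.trans (centralizer_le_normalizer _))
  intro x hx
  have hmem : n * x * n⁻¹ ∈ E := by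
    refine hC.cen _ (hnX (conj_mem_conjS hx)).1 fun e he => ?_
    have he' : n⁻¹ * e * n ∈ E := (mem_normalizer_iff''.1 hn e).1 he
    have := mem_centralizer_iff.1 (hXO hx) _ he'
    calc n * x * n⁻¹ * e = n * (x * (n⁻¹ * e * n)) * n⁻¹ := by group
      _ = n * ((n⁻¹ * e * n) * x) * n⁻¹ := by rw [this]
      _ = e * (n * x * n⁻¹) := by group
  exact (mem_normalizer_iff.1 hn x).2 hmem

end Cand

/-! ## The automiser -/

variable (E : Subgroup G)

/-- The automiser of `E`. -/
abbrev aut : Subgroup (MulAut ↥E) := (normalizerMonoidHom E).range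

/-- An element of `N(E)` as an automorphism. -/
def autOf {n : G} (hn : n ∈ normalizer (E : Set G)) : ↥(aut E) :=
  (normalizerMonoidHom E).rangeRestrict ⟨n, hn⟩

variable {E}

theorem autOf_smul {n : G} (hn : n ∈ normalizer (E : Set G)) (x : ↥E) :
    ((autOf E hn • x : ↥E) : G) = n * x * n⁻¹ := rfl

theorem autOf_mul {m n : G} (hm : m ∈ normalizer (E : Set G)) (hn : n ∈ normalizer (E : Set G)) :
    autOf E (mul_mem hm hn) = autOf E hm * autOf E hn :=
  map_mul (normalizerMonoidHom E).rangeRestrict ⟨m, hm⟩ ⟨n, hn⟩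

theorem autOf_inv {m : G} (hm : m ∈ normalizer (E : Set G)) :
    autOf E (inv_mem hm) = (autOf E hm)⁻¹ :=
  map_inv (normalizerMonoidHom E).rangeRestrict ⟨m, hm⟩

theorem aut_faith (l : ↥(aut E)) (h : ∀ u : ↥E, l • u = u) : l = 1 :=
  Subtype.ext (MulEquiv.ext h)

theorem autOf_eq_one_iff {n : G} (hn : n ∈ normalizer (E : Set G)) :
    autOf E hn = 1 ↔ n ∈ centralizer (E : Set G) := by
  rw [mem_centralizer_iff]
  constructor
  · intro h x hx
    have := congrArg Subtype.val ((congrArg (fun l : ↥(aut E) => l • (⟨x, hx⟩ : ↥E)) h).trans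
      (one_smul _ _))
    rw [autOf_smul] at this
    exact (mul_inv_eq_iff_eq_mul.1 this).symm
  · intro h
    refine aut_faith _ fun u => Subtype.ext ?_
    rw [autOf_smul, mul_inv_eq_iff_eq_mul]
    exact (h u u.2).symm

theorem autOf_eq_iff {m n : G} (hm : m ∈ normalizer (E : Set G)) (hn : n ∈ normalizer (E : Set G)) :
    autOf E hm = autOf E hn ↔ m⁻¹ * n ∈ centralizer (E : Set G) := by
  rw [← autOf_eq_one_iff (mul_mem (inv_mem hm) hn), autOf_mul (inv_mem hm) hn, autOf_inv hm,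
    inv_mul_eq_one]

theorem exists_autOf (l : ↥(aut E)) :
    ∃ (n : G) (hn : n ∈ normalizer (E : Set G)), autOf E hn = l := by
  obtain ⟨⟨n, hn⟩, h⟩ := (normalizerMonoidHom E).rangeRestrict_surjective l
  exact ⟨n, hn, h⟩

namespace Cand

variable {S : Sylow 2 G}

/-- `N_S(E)` as a Sylow subgroup of `N(E)`. -/
def sylN (hA : AI G) (hC : Cand S E) : Sylow 2 ↥(normalizer (E : Set G)) where
  toSubgroup := (uS S E).subgroupOf (normalizer (E : Set G))
  isPGroup' := (S.2.to_le inf_le_left).comap_subtype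
  is_maximal' := by
    intro Q hQ hle
    have h := hC.le_of_pGroup hA (hQ.map (normalizer (E : Set G)).subtype) (map_subtype_le _) (by
      intro x hx
      exact ⟨⟨x, hx.2⟩, hle hx, rfl⟩)
    rw [← comap_map_eq_self_of_injective (normalizer (E : Set G)).subtype_injective Q, h]
    rfl

/-- The Sylow subgroup of the automiser coming from `S`. -/
noncomputable def sylL (hA : AI G) (hC : Cand S E) : Sylow 2 ↥(aut E) :=
  (hC.sylN hA).mapSurjective (normalizerMonoidHom E).rangeRestrict_surjective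

theorem mem_sylL (hA : AI G) (hC : Cand S E) {l : ↥(aut E)} :
    l ∈ (hC.sylL hA : Subgroup ↥(aut E)) ↔
      ∃ (u : G) (hu : u ∈ uS S E), autOf E hu.2 = l := by
  rw [sylL, Sylow.coe_mapSurjective]
  constructor
  · rintro ⟨⟨u, hu⟩, hu', rfl⟩
    exact ⟨u, hu', rfl⟩
  · rintro ⟨u, hu, rfl⟩
    exact ⟨⟨u, hu.2⟩, hu, rfl⟩

theorem autOf_mem_sylL (hA : AI G) (hC : Cand S E) {u : G} (hu : u ∈ uS S E) :
    autOf E hu.2 ∈ (hC.sylL hA : Subgroup ↥(aut E)) := (hC.mem_sylL hA).2 ⟨u, hu, rfl⟩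

theorem mem_smul_sylL {hA : AI G} {hC : Cand S E} {n : G} (hn : n ∈ normalizer (E : Set G))
    {l : ↥(aut E)} : l ∈ ((autOf E hn • hC.sylL hA : Sylow 2 ↥(aut E)) : Subgroup ↥(aut E)) ↔
      ∃ (u : G) (hu : u ∈ uS S E), autOf E (mul_mem (mul_mem hn hu.2) (inv_mem hn)) = l := by
  rw [Sylow.coe_subgroup_smul, mem_pointwise_smul_iff_inv_smul_mem]
  simp only [MulAut.smul_def, MulAut.conj_inv_apply, hC.mem_sylL hA]
  constructor
  · rintro ⟨u, hu, h⟩
    refine ⟨u, hu, ?_⟩
    rw [autOf_mul (mul_mem hn hu.2) (inv_mem hn), autOf_mul hn hu.2, autOf_inv hn, h]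
    group
  · rintro ⟨u, hu, rfl⟩
    refine ⟨u, hu, ?_⟩
    rw [autOf_mul (mul_mem hn hu.2) (inv_mem hn), autOf_mul hn hu.2, autOf_inv hn]
    group

/-- Elements of `N(E)` fixing the Sylow subgroup of the automiser act as elements of `N(S)`. -/
theorem exists_split (hA : AI G) (hC : Cand S E) {n : G} (hn : n ∈ normalizer (E : Set G))
    (hfix : autOf E hn • hC.sylL hA = hC.sylL hA) :
    ∃ h ∈ normalizer (E : Set G) ⊓ normalizer ((S : Subgroup G) : Set G),
      ∀ x ∈ E, n * x * n⁻¹ = h * x * h⁻¹ := by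
  haveI : Fact (Nat.Prime 2) := ⟨Nat.prime_two⟩
  have hO : centralizer (E : Set G) ≤ normalizer (E : Set G) := centralizer_le_normalizer _
  have hUnO : uS S E ≤ normalizer (centralizer (E : Set G) : Set G) := by
    intro u hu
    rw [mem_normalizer_iff]
    intro y
    simp only [SetLike.mem_coe, mem_centralizer_iff]
    constructor
    · intro hy e he
      have he' : u⁻¹ * e * u ∈ E := (mem_normalizer_iff''.1 hu.2 e).1 he
      calc e * (u * y * u⁻¹) = u * ((u⁻¹ * e * u) * y) * u⁻¹ := by group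
        _ = u * (y * (u⁻¹ * e * u)) * u⁻¹ := by rw [hy _ he']
        _ = u * y * u⁻¹ * e := by group
    · intro hy e he
      have he' : u * e * u⁻¹ ∈ E := (mem_normalizer_iff.1 hu.2 e).1 he
      calc e * y = u⁻¹ * ((u * e * u⁻¹) * (u * y * u⁻¹)) * u := by group
        _ = u⁻¹ * ((u * y * u⁻¹) * (u * e * u⁻¹)) * u := by rw [hy _ he']
        _ = y * e := by group
  set M := uS S E ⊔ centralizer (E : Set G) with hM
  have hMN : M ≤ normalizer (E : Set G) := sup_le inf_le_right hO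
  have hle : conjS n (uS S E) ≤ M := by
    rintro _ ⟨u, hu, rfl⟩
    have h1 : autOf E (mul_mem (mul_mem hn hu.2) (inv_mem hn)) ∈
        (hC.sylL hA : Subgroup ↥(aut E)) := by
      rw [← hfix]; exact (mem_smul_sylL hn).2 ⟨u, hu, rfl⟩
    obtain ⟨v, hv, h2⟩ := (hC.mem_sylL hA).1 h1
    have h3 := (autOf_eq_iff hv.2 (mul_mem (mul_mem hn hu.2) (inv_mem hn))).1 h2
    have := mul_mem (mem_sup_left (T := centralizer (E : Set G)) hv)
      (mem_sup_right (S := uS S E) h3)
    rwa [mul_inv_cancel_left] at this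
  obtain ⟨m, hm, hmU⟩ := exists_conj_le_of_maximal (N := M) (S := uS S E)
    (S.2.to_le inf_le_left) le_sup_left
    (fun U hU hUM h => hC.le_of_pGroup hA hU (hUM.trans hMN) h)
    ((S.2.to_le inf_le_left : IsPGroup 2 (uS S E)).map _) hle
  change conjS m (conjS n (uS S E)) ≤ uS S E at hmU
  rw [← conjS_mul] at hmU
  have hmn : m * n ∈ normalizer (uS S E : Set G) :=
    mem_normalizer_of_conjS_eq (eq_of_le_of_card_ge hmU (card_conjS _ _).ge)
  have hm' : m⁻¹ ∈ ((uS S E ⊔ centralizer (E : Set G) : Subgroup G) : Set G) := inv_mem hm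
  rw [sup_comm, coe_mul_of_right_le_normalizer_left _ _ hUnO] at hm'
  obtain ⟨o, ho, v, hv, hov⟩ := hm'
  refine ⟨v * (m * n), mem_inf.2 ⟨mul_mem hv.2 (mul_mem (hMN hm) hn),
    mul_mem (le_normalizer hv.1) (hC.normalizer_uS_le hA hmn)⟩, fun x hx => ?_⟩
  have hn' : n = o * (v * (m * n)) := by
    rw [← mul_assoc, show o * v = m⁻¹ from hov, inv_mul_cancel_left]
  conv_lhs => rw [hn']
  have hz : (v * (m * n)) * x * (v * (m * n))⁻¹ ∈ E :=
    (mem_normalizer_iff.1 (mul_mem hv.2 (mul_mem (hMN hm) hn)) x).1 hx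
  calc o * (v * (m * n)) * x * (o * (v * (m * n)))⁻¹
      = o * ((v * (m * n)) * x * (v * (m * n))⁻¹) * o⁻¹ := by group
    _ = _ := by rw [← mem_centralizer_iff.1 ho _ hz, mul_inv_cancel_right]

/-- Distinct Sylow subgroups of the automiser meet trivially. -/
theorem ti (hA : AI G) (hC : Cand S E) :
    ∀ Q R : Sylow 2 ↥(aut E), Q ≠ R → (Q : Subgroup ↥(aut E)) ⊓ R = ⊥ := by
  haveI : Fact (Nat.Prime 2) := ⟨Nat.prime_two⟩
  have core : ∀ n : G, ∀ hn : n ∈ normalizer (E : Set G), autOf E hn • hC.sylL hA ≠ hC.sylL hA →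
      ∀ u : G, ∀ hu : u ∈ uS S E, ∀ v : G, ∀ hv : v ∈ uS S E,
        autOf E hu.2 = autOf E (mul_mem (mul_mem hn hv.2) (inv_mem hn)) → autOf E hu.2 = 1 := by
    intro n hn hne u hu v hv huv
    have hO : centralizer (E : Set G) ≤ normalizer (E : Set G) := centralizer_le_normalizer _
    set X := zpowers u ⊔ E with hX
    set Y := zpowers v ⊔ E with hY
    have hXU : X ≤ uS S E := sup_le (zpowers_le.2 hu) hC.le_uS
    have hYU : Y ≤ uS S E := sup_le (zpowers_le.2 hv) hC.le_uS
    set M := zpowers u ⊔ centralizer (E : Set G) with hM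
    have hEO : E ≤ centralizer (E : Set G) := fun e he =>
      mem_centralizer_iff.2 fun x hx => hC.comm x hx e he
    have hMN : M ≤ normalizer (E : Set G) := sup_le (zpowers_le.2 hu.2) hO
    have hc : u⁻¹ * (n * v * n⁻¹) ∈ centralizer (E : Set G) := (autOf_eq_iff _ _).1 huv
    have hYM : conjS n Y ≤ M := by
      rw [conjS, hY, Subgroup.map_sup, MonoidHom.map_zpowers]
      refine sup_le (zpowers_le.2 ?_) ?_
      · have := mul_mem (mem_sup_left (T := centralizer (E : Set G)) (mem_zpowers u))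
          (mem_sup_right (S := zpowers u) hc)
        rwa [mul_inv_cancel_left] at this
      · have := conjS_eq_of_mem_normalizer hn
        exact this.le.trans (hEO.trans le_sup_right)
    have hOn : centralizer (E : Set G) ⊓ uS S E ≤ E := fun x hx =>
      hC.cen x hx.2.1 fun e he => (mem_centralizer_iff.1 hx.1 e he).symm
    obtain ⟨Z, hZp, hXZ, hZM, hZmax⟩ : ∃ Z : Subgroup G, IsPGroup 2 Z ∧ X ≤ Z ∧ Z ≤ M ∧
        ∀ U : Subgroup G, IsPGroup 2 U → U ≤ M → Z ≤ U → U = Z := by
      have hXM : X ≤ M := sup_le le_sup_left (hEO.trans le_sup_right)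
      obtain ⟨Q, hQ⟩ := ((S.2.to_le (hXU.trans inf_le_left)).comap_subtype (K := M)).exists_le_sylow
      refine ⟨(Q : Subgroup ↥M).map M.subtype, Q.2.map _, fun x hx => ⟨⟨x, hXM hx⟩, hQ hx, rfl⟩,
        map_subtype_le _, fun U hU hUM hle => ?_⟩
      have h1 : U.comap M.subtype = (Q : Subgroup ↥M) :=
        Q.3 (hU.comap_subtype (K := M)) (fun x hx => hle ⟨x, hx, rfl⟩)
      have h2 := congrArg (map M.subtype) h1
      rwa [map_comap_eq, range_subtype, inf_eq_right.2 hUM] at h2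
    have hOu : zpowers u ≤ normalizer (centralizer (E : Set G) : Set G) := by
      refine zpowers_le.2 (mem_normalizer_of_conjS_eq ?_)
      ext x
      rw [mem_conjS, mem_centralizer_iff, mem_centralizer_iff]
      constructor
      · intro h e he
        have he' := (mem_normalizer_iff''.1 hu.2 e).1 he
        calc e * x = u * ((u⁻¹ * e * u) * (u⁻¹ * x * u)) * u⁻¹ := by group
          _ = u * ((u⁻¹ * x * u) * (u⁻¹ * e * u)) * u⁻¹ := by rw [h _ he']
          _ = x * e := by group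
      · intro h e he
        have he' := (mem_normalizer_iff.1 hu.2 e).1 he
        calc e * (u⁻¹ * x * u) = u⁻¹ * ((u * e * u⁻¹) * x) * u := by group
          _ = u⁻¹ * (x * (u * e * u⁻¹)) * u := by rw [h _ he']
          _ = u⁻¹ * x * u * e := by group
    -- a 2-subgroup of `M` above `X` is `X`
    have hZX : Z ≤ X := by
      intro z hz
      have hz' : z ∈ ((zpowers u ⊔ centralizer (E : Set G) : Subgroup G) : Set G) := hZM hz
      rw [sup_comm, coe_mul_of_right_le_normalizer_left _ _ hOu] at hz'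
      obtain ⟨o, ho, w, hw, rfl⟩ := hz'
      have hoZ : o ∈ Z := by
        have hwZ : w ∈ Z := hXZ (mem_sup_left hw)
        simpa using mul_mem hz (inv_mem hwZ)
      have hoE : o ∈ E := hC.mem_of_centralizes hA (X := zpowers o)
        (hZp.to_le (zpowers_le.2 hoZ)) (zpowers_le.2 ho) (mem_zpowers o)
      exact mul_mem (mem_sup_right hoE) (mem_sup_left hw)
    obtain ⟨m, hm, hmY⟩ := exists_conj_le_of_maximal hZp hZM hZmax
      ((S.2.to_le (hYU.trans inf_le_left)).map (MulAut.conj n).toMonoidHom) hYM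
    change conjS m (conjS n Y) ≤ Z at hmY
    rw [← conjS_mul] at hmY
    have hmnN : m * n ∈ normalizer (E : Set G) := mul_mem (hMN hm) hn
    by_cases hS : m * n ∈ normalizer ((S : Subgroup G) : Set G)
    · exfalso
      apply hne
      have hmn : autOf E hmnN • hC.sylL hA = hC.sylL hA := by
        rw [Sylow.smul_eq_iff_mem_normalizer]
        refine mem_normalizer_fintype fun l hl => ?_
        obtain ⟨w, hw, rfl⟩ := (hC.mem_sylL hA).1 hl
        have hw' : m * n * w * (m * n)⁻¹ ∈ uS S E :=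
          mem_inf.2 ⟨(mem_normalizer_iff.1 hS w).1 hw.1,
            mul_mem (mul_mem hmnN hw.2) (inv_mem hmnN)⟩
        rw [← autOf_inv hmnN, ← autOf_mul hmnN hw.2, ← autOf_mul (mul_mem hmnN hw.2) (inv_mem hmnN)]
        exact hC.autOf_mem_sylL hA hw'
      have hml : autOf E (hMN hm) ∈ (hC.sylL hA : Subgroup ↥(aut E)) := by
        have hm' : m ∈ ((zpowers u ⊔ centralizer (E : Set G) : Subgroup G) : Set G) := hm
        rw [sup_comm, coe_mul_of_right_le_normalizer_left _ _ hOu] at hm'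
        obtain ⟨o, ho, w, hw, rfl⟩ := hm'
        have hwU : w ∈ uS S E := zpowers_le.2 hu hw
        rw [show autOf E (hMN hm) = autOf E (hO ho) * autOf E hwU.2 from autOf_mul (hO ho) hwU.2,
          (autOf_eq_one_iff (hO ho)).2 ho, one_mul]
        exact hC.autOf_mem_sylL hA hwU
      rw [autOf_mul (hMN hm) hn, mul_smul] at hmn
      have h2 : autOf E (hMN hm) • hC.sylL hA = hC.sylL hA :=
        Sylow.smul_eq_iff_mem_normalizer.2 (le_normalizer hml)
      exact MulAction.injective _ (hmn.trans h2.symm)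
    · have hTne : (m * n) • S ≠ S := fun e => hS (Sylow.smul_eq_iff_mem_normalizer.1 e)
      set y := m * n * v * (m * n)⁻¹ with hy
      have hyX : y ∈ X := hZX (hmY (conj_mem_conjS (mem_sup_left (mem_zpowers v))))
      have hmT : ∀ {c : G}, c ∈ (S : Subgroup G) →
          m * n * c * (m * n)⁻¹ ∈ (((m * n) • S : Sylow 2 G) : Subgroup G) := fun {c} hc =>
        Subgroup.smul_mem_pointwise_smul _ (MulAut.conj (m * n)) _ hc
      have hyE : y ∈ E := by
        refine hC.cen y (hXU hyX).1 fun e he => ?_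
        have he' : (m * n)⁻¹ * e * (m * n) ∈ E := (mem_normalizer_iff''.1 hmnN e).1 he
        by_contra hne'
        refine hTne (eq_of_nonabelian hA (hmT hv.1) (hXU hyX).1 ?_ (hC.le he) hne')
        have := hmT (hC.le he')
        rwa [show m * n * ((m * n)⁻¹ * e * (m * n)) * (m * n)⁻¹ = e by group] at this
      have hvE : v ∈ E := by
        have := (mem_normalizer_iff''.1 hmnN y).1 hyE
        rwa [hy, show (m * n)⁻¹ * (m * n * v * (m * n)⁻¹) * (m * n) = v by group] at this
      rw [huv, autOf_eq_one_iff]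
      exact hEO ((mem_normalizer_iff.1 hn v).1 hvE)
  intro Q R hQR
  obtain ⟨a, rfl⟩ := MulAction.exists_smul_eq ↥(aut E) (hC.sylL hA) Q
  obtain ⟨b, rfl⟩ := MulAction.exists_smul_eq ↥(aut E) (hC.sylL hA) R
  rw [Subgroup.eq_bot_iff_forall]
  intro l hl
  obtain ⟨n, hn, hab⟩ := exists_autOf (a⁻¹ * b)
  have hne : autOf E hn • hC.sylL hA ≠ hC.sylL hA := by
    rw [hab, mul_smul, Ne, inv_smul_eq_iff]; exact fun e => hQR e.symm
  have h1 : a⁻¹ * l * a ∈ (hC.sylL hA : Subgroup ↥(aut E)) := by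
    have := hl.1
    erw [Subgroup.mem_pointwise_smul_iff_inv_smul_mem] at this
    simpa [MulAut.smul_def, mul_assoc] using this
  have h2 : a⁻¹ * l * a ∈ ((autOf E hn • hC.sylL hA : Sylow 2 ↥(aut E)) : Subgroup ↥(aut E)) := by
    have := hl.2
    rw [hab]
    erw [Subgroup.mem_pointwise_smul_iff_inv_smul_mem] at this ⊢
    simpa [MulAut.smul_def, mul_assoc] using this
  obtain ⟨u, hu, hu'⟩ := (hC.mem_sylL hA).1 h1
  obtain ⟨v, hv, hv'⟩ := (mem_smul_sylL hn).1 h2
  have := core n hn hne u hu v hv (hu'.trans hv'.symm)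
  rw [hu'] at this
  rw [show l = a * (a⁻¹ * l * a) * a⁻¹ by group, this, mul_one, mul_inv_cancel]

end Cand

/-- An abelian self-centralising subgroup whose automiser has two Sylow 2-subgroups. -/
def Ess (hA : AI G) (S : Sylow 2 G) (E : Subgroup G) : Prop :=
  ∃ hC : Cand S E, ∃ l : ↥(aut E), l • hC.sylL hA ≠ hC.sylL hA

/-- Fusion in `S` is generated by `N(S)` and the normalisers of essential subgroups. -/
theorem rel_of_fused (hA : AI G) {S : Sylow 2 G} (hna : ¬ IsMulCommutative ↥(S : Subgroup G))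
    (Rel : G → G → Prop) (htrans : ∀ a b c, Rel a b → Rel b c → Rel a c)
    (hS : ∀ n ∈ normalizer ((S : Subgroup G) : Set G), ∀ x ∈ (S : Subgroup G),
      Rel x (n * x * n⁻¹))
    (hE : ∀ E : Subgroup G, Ess hA S E → ∀ n ∈ normalizer (E : Set G), ∀ x ∈ E,
      Rel x (n * x * n⁻¹))
    {x g : G} (hx : x ∈ (S : Subgroup G)) (hgx : g * x * g⁻¹ ∈ (S : Subgroup G)) :
    Rel x (g * x * g⁻¹) := by
  haveI : Fact (Nat.Prime 2) := ⟨Nat.prime_two⟩
  suffices H : ∀ (A : Subgroup G) (g : G), FusionChain 2 (S : Subgroup G) A g →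
      ∀ a ∈ A, Rel a (g * a * g⁻¹) from H _ g (alperin_element S x g hx hgx) x (mem_zpowers x)
  intro A g hc
  induction hc with
  | comp _ _ ih₁ ih₂ =>
    intro a ha
    refine htrans _ _ _ (ih₁ a ha) ?_
    have := ih₂ _ (conj_mem_conjS ha)
    simpa [mul_assoc] using this
  | @base A R n hR hAR hn =>
    intro a ha
    obtain ⟨hRS, hfn, -⟩ := hR
    have haR := hAR ha
    by_cases hab : ∀ p ∈ R, ∀ q ∈ R, p * q = q * p
    case neg =>
      push Not at hab
      obtain ⟨p, hp, q, hq, hpq⟩ := hab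
      exact hS n (mem_normalizer_of_nonabelian hA (hRS hp) (hRS ((mem_normalizer_iff.1 hn p).1 hp))
        (hRS hq) (hRS ((mem_normalizer_iff.1 hn q).1 hq)) hpq) a (hRS haR)
    set O := centralizer (R : Set G) with hO
    set T := (S : Subgroup G) ⊓ O with hT
    have hON : O ≤ normalizer (R : Set G) := centralizer_le_normalizer _
    have hRT : R ≤ T := le_inf hRS fun p hp => mem_centralizer_iff.2 fun q hq => hab q hq p hp
    -- `T` is a maximal 2-subgroup of `C(R)`
    have hmax : ∀ U : Subgroup G, IsPGroup 2 U → U ≤ O → T ≤ U → U = T := by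
      intro U hU hUO hTU
      obtain ⟨m, hm, hmU⟩ := exists_conj_le_of_maximal (N := normalizer (R : Set G))
        (S := (S : Subgroup G) ⊓ normalizer (R : Set G)) (S.2.to_le inf_le_left) inf_le_right
        (fun V hV hVN hle => hfn V hV hVN hle) hU (hUO.trans hON)
      have h1 : conjS m U ≤ T := by
        refine le_inf (hmU.trans inf_le_left) ?_
        rintro _ ⟨y, hy, rfl⟩
        rw [hO, mem_centralizer_iff]
        intro e he
        have he' : m⁻¹ * e * m ∈ R := (mem_normalizer_iff''.1 hm e).1 he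
        have := mem_centralizer_iff.1 (hUO hy) _ he'
        change e * (m * y * m⁻¹) = m * y * m⁻¹ * e
        calc e * (m * y * m⁻¹) = m * ((m⁻¹ * e * m) * y) * m⁻¹ := by group
          _ = m * (y * (m⁻¹ * e * m)) * m⁻¹ := by rw [this]
          _ = _ := by group
      refine (eq_of_le_of_card_ge hTU ?_).symm
      rw [← card_conjS m U]
      exact card_le_of_le h1
    have hnT : conjS n T ≤ O := by
      rintro _ ⟨y, hy, rfl⟩
      rw [hO, mem_centralizer_iff]
      intro e he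
      have he' : n⁻¹ * e * n ∈ R := (mem_normalizer_iff''.1 hn e).1 he
      have := mem_centralizer_iff.1 hy.2 _ he'
      change e * (n * y * n⁻¹) = n * y * n⁻¹ * e
      calc e * (n * y * n⁻¹) = n * ((n⁻¹ * e * n) * y) * n⁻¹ := by group
        _ = n * (y * (n⁻¹ * e * n)) * n⁻¹ := by rw [this]
        _ = _ := by group
    obtain ⟨c, hc, hcT⟩ := exists_conj_le_of_maximal (N := O) (S := T) (S.2.to_le inf_le_left)
      inf_le_right hmax ((S.2.to_le inf_le_left : IsPGroup 2 T).map _) hnT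
    change conjS c (conjS n T) ≤ T at hcT
    rw [← conjS_mul] at hcT
    have hcn : c * n ∈ normalizer (T : Set G) :=
      mem_normalizer_of_conjS_eq (eq_of_le_of_card_ge hcT (card_conjS _ _).ge)
    have hact : c * n * a * (c * n)⁻¹ = n * a * n⁻¹ := by
      have h1 : n * a * n⁻¹ ∈ R := (mem_normalizer_iff.1 hn a).1 haR
      calc c * n * a * (c * n)⁻¹ = c * (n * a * n⁻¹) * c⁻¹ := by group
        _ = _ := by rw [← mem_centralizer_iff.1 hc _ h1, mul_inv_cancel_right]
    rw [← hact]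
    by_cases habT : ∀ p ∈ T, ∀ q ∈ T, p * q = q * p
    case neg =>
      push Not at habT
      obtain ⟨p, hp, q, hq, hpq⟩ := habT
      exact hS _ (mem_normalizer_of_nonabelian hA hp.1 ((mem_normalizer_iff.1 hcn p).1 hp).1 hq.1
        ((mem_normalizer_iff.1 hcn q).1 hq).1 hpq) a (hRS haR)
    have hTC : Cand S T := by
      refine ⟨lt_of_le_of_ne inf_le_left fun e => hna ?_, habT, fun s hs hsT => mem_inf.2 ⟨hs, ?_⟩⟩
      · exact ⟨⟨fun p q => Subtype.ext (habT p (e.symm ▸ p.2 : (p : G) ∈ T) q (e.symm ▸ q.2 : (q : G) ∈ T))⟩⟩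
      · exact mem_centralizer_iff.2 fun q hq => (hsT q (hRT hq)).symm
    by_cases hmv : autOf T hcn • hTC.sylL hA = hTC.sylL hA
    · obtain ⟨m, hm, he⟩ := hTC.exists_split hA hcn hmv
      rw [he a (hRT haR)]
      exact hS m (mem_inf.1 hm).2 a (hRS haR)
    · exact hE T ⟨hTC, _, hmv⟩ _ hcn a (hRT haR)

/-- A normal abelian subgroup of `S` preserved by `N(S)` and by the essential normalisers is
strongly closed. -/
theorem stronglyClosed_of (hA : AI G) {S : Sylow 2 G}
    (hna : ¬ IsMulCommutative ↥(S : Subgroup G)) {T : Subgroup G} (hT : T ≤ S)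
    (hS : ∀ n ∈ normalizer ((S : Subgroup G) : Set G), ∀ x ∈ T, n * x * n⁻¹ ∈ T)
    (hE : ∀ E : Subgroup G, Ess hA S E → ∀ n ∈ normalizer (E : Set G), ∀ x ∈ T, x ∈ E →
      n * x * n⁻¹ ∈ T) : Cfsg.IsStronglyClosed T (S : Subgroup G) :=
  ⟨hT, fun _ hx _ hgx => rel_of_fused hA hna (fun a b => a ∈ T → b ∈ T)
    (fun _ _ _ h1 h2 h => h2 (h1 h)) (fun n hn a _ ha => hS n hn a ha)
    (fun E hEs n hn a haE ha => hE E hEs n hn a ha haE) (hT hx) hgx hx⟩

/-- The focal bound. -/
theorem sylow_le_of [IsSimpleGroup G] (hG : ¬ IsMulCommutative G) (hA : AI G) {S : Sylow 2 G}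
    (hna : ¬ IsMulCommutative ↥(S : Subgroup G)) (K : Subgroup G)
    (hS : ∀ n ∈ normalizer ((S : Subgroup G) : Set G), ∀ x ∈ (S : Subgroup G),
      x * (n * x * n⁻¹)⁻¹ ∈ K)
    (hE : ∀ E : Subgroup G, Ess hA S E → ∀ n ∈ normalizer (E : Set G), ∀ x ∈ E,
      x * (n * x * n⁻¹)⁻¹ ∈ K) : (S : Subgroup G) ≤ K := by
  haveI : Fact (Nat.Prime 2) := ⟨Nat.prime_two⟩
  have h := Cfsg.Agent.Lib.Transfer.Fusion.inf_commutator_le_of_forall (⊤ : Subgroup G) S K
    (fun x hx u _ hux => ?_)
  · refine le_trans (le_inf ?_ le_rfl) h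
    have hne : ⁅(⊤ : Subgroup G), ⊤⁆ ≠ ⊥ := fun e => hG ⟨⟨fun a b => by
      have := commutator_mem_commutator (mem_top a) (mem_top b)
      rw [e, mem_bot] at this
      exact commutatorElement_eq_one_iff_mul_comm.1 this⟩⟩
    rw [(Subgroup.Normal.eq_bot_or_eq_top inferInstance).resolve_left hne]
    exact le_top
  · have := rel_of_fused hA hna (fun a b => a * b⁻¹ ∈ K) (fun a b c h1 h2 => by
      have := mul_mem h1 h2; rwa [mul_assoc, inv_mul_cancel_left] at this) hS hE hx.2 hux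
    rw [commutatorElement_def]
    rwa [mul_inv_rev, mul_inv_rev, inv_inv, ← mul_assoc, ← mul_assoc] at this

end Cfsg.Agent.Lib.AbelInter85
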