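import Cfsg.Agent.Lib.AbelInter85.NoNormal
import Cfsg.Agent.Lib.PGroups.Frattini
import Cfsg.Agent.Lib.Involutions.Basic
import Mathlib.GroupTheory.Frattini

/-!
# Abelian Sylow 2-intersections: small pairs

Either a non-trivial abelian subgroup of `S` is strongly closed or `S` is dihedral.
-/

set_option autoImplicit false
set_option linter.unusedSectionVars false

namespace Cfsg.Agent.Lib.AbelInter85

open Subgroup Cfsg.Agent.Lib.Fusion.Alperin Offender
open scoped commutatorElement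

variable {G : Type*} [Group G] [Finite G] {S : Sylow 2 G} {E F : Subgroup G} {hA : AI G}

theorem odd_mem_normalizer (hs : AllSmall hA S) (h : NPair hA S E F) {n : G}
    (hn : n ∈ normalizer ((S : Subgroup G) : Set G)) {m : ℕ} (hm : Odd m) (hnm : n ^ m = 1) :
    n ∈ normalizer (E : Set G) := by
  obtain ⟨c, hc, hcE, hcF⟩ := h.exists_gam
  refine mem_normalizer_fintype fun x hx => h.mem_of_commute hcE hcF
    (le_normalizer_of_mem hn (h.twin.left.candE.le hx)) ?_
  have hfix := fix_gam hs hn hm hnm hc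
  calc n * x * n⁻¹ * c = n * x * n⁻¹ * (n * c * n⁻¹) := by rw [hfix]
    _ = n * (x * c) * n⁻¹ := by group
    _ = n * (c * x) * n⁻¹ := by rw [h.twin.left.candE.comm x hx c hcE]
    _ = n * c * n⁻¹ * (n * x * n⁻¹) := by group
    _ = c * (n * x * n⁻¹) := by rw [hfix]

/-- The generators `[s, n]`. -/
def kSet (S : Sylow 2 G) : Set G :=
  {z | ∃ s ∈ (S : Subgroup G), ∃ n ∈ normalizer ((S : Subgroup G) : Set G), ∃ m : ℕ,
    Odd m ∧ n ^ m = 1 ∧ z = s⁻¹ * (n * s * n⁻¹)}

theorem kSet_mem_inf (hs : AllSmall hA S) (h : NPair hA S E F) {z : G} (hz : z ∈ kSet S) :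
    z ∈ E ⊓ F := by
  obtain ⟨s, hs', n, hn, m, hm, hnm, rfl⟩ := hz
  have key : ∀ c ∈ gam hA S, s⁻¹ * (n * s * n⁻¹) * c = c * (s⁻¹ * (n * s * n⁻¹)) := by
    intro c hc
    have h1 := fix_gam hs hn hm hnm hc
    have h2 := fix_gam hs hn hm hnm (gam_conj (le_normalizer hs') hc)
    calc s⁻¹ * (n * s * n⁻¹) * c = s⁻¹ * (n * s * n⁻¹) * (n * c * n⁻¹) := by rw [h1]
      _ = s⁻¹ * (n * (s * c * s⁻¹) * n⁻¹) * (n * s * n⁻¹) := by group
      _ = _ := by rw [h2]; group
  have hzS : s⁻¹ * (n * s * n⁻¹) ∈ (S : Subgroup G) :=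
    mul_mem (inv_mem hs') (le_normalizer_of_mem hn hs')
  obtain ⟨c, hc, hcE, hcF⟩ := h.exists_gam
  obtain ⟨c', hc', hcF', hcE'⟩ := h.symm.exists_gam
  exact mem_inf.2 ⟨h.mem_of_commute hcE hcF hzS (key c hc),
    h.symm.mem_of_commute hcF' hcE' hzS (key c' hc')⟩

theorem kSet_core (hs : AllSmall hA S) (h : NPair hA S E F) {z : G} (hz : z ∈ kSet S) :
    z ∈ core2 E := by
  obtain ⟨s, hs', n, hn, m, hm, hnm, rfl⟩ := hz
  by_contra hz
  set k := s⁻¹ * (n * s * n⁻¹) with hk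
  have hkZ : k ∈ E ⊓ F := kSet_mem_inf hs h ⟨s, hs', n, hn, m, hm, hnm, rfl⟩
  have hnE := odd_mem_normalizer hs h hn hm hnm
  have hnF := odd_mem_normalizer hs h.symm hn hm hnm
  -- the conjugates of `k` lie in `Z ∖ core2`
  have hout : ∀ j : ℕ, n ^ j * k * (n ^ j)⁻¹ ∈ E ⊓ F ∧ n ^ j * k * (n ^ j)⁻¹ ∉ core2 E := by
    intro j
    refine ⟨mem_inf.2 ⟨le_normalizer_of_mem (pow_mem hnE j) hkZ.1,
      le_normalizer_of_mem (pow_mem hnF j) hkZ.2⟩, fun hh => hz ?_⟩
    have := conj_mem_core2 (inv_mem (pow_mem hnE j)) hh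
    rwa [show (n ^ j)⁻¹ * (n ^ j * k * (n ^ j)⁻¹) * (n ^ j)⁻¹⁻¹ = k by group] at this
  set p : ℕ → G := fun j => s⁻¹ * (n ^ j * s * (n ^ j)⁻¹) with hp
  have hpS : ∀ j, p (j + 1) = p j * (n ^ j * k * (n ^ j)⁻¹) := fun j => by
    simp only [hp, hk, pow_succ]; group
  have hind : ∀ j : ℕ, p (2 * j) ∈ core2 E ∧ p (2 * j + 1) ∈ E ⊓ F ∧ p (2 * j + 1) ∉ core2 E := by
    intro j
    induction j with
    | zero =>
      have h0 : p 0 = 1 := by simp [hp]
      refine ⟨by rw [h0]; exact one_mem _, ?_⟩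
      rw [hpS, h0, one_mul]
      exact hout 0
    | succ j ih =>
      obtain ⟨-, hZ, hc⟩ := ih
      have h2 : p (2 * (j + 1)) ∈ core2 E := by
        rw [show 2 * (j + 1) = 2 * j + 1 + 1 by ring, hpS]
        exact h.mul_mem_core hs hZ hc (hout _).1 (hout _).2
      refine ⟨h2, ?_, fun hh => (hout (2 * (j + 1))).2 ?_⟩
      · rw [hpS]; exact mul_mem (h.twin.left.core2_le h2) (hout _).1
      · have := mul_mem (inv_mem h2) hh
        rwa [hpS, inv_mul_cancel_left] at this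
  obtain ⟨i, rfl⟩ := hm
  refine (hind i).2.2 ?_
  have : p (2 * i + 1) = 1 := by simp [hp, hnm]
  rw [this]
  exact one_mem _

theorem conj_kSet {g z : G} (hg : g ∈ normalizer ((S : Subgroup G) : Set G)) (hz : z ∈ kSet S) :
    g * z * g⁻¹ ∈ kSet S := by
  obtain ⟨s, hs', n, hn, m, hm, hnm, rfl⟩ := hz
  refine ⟨g * s * g⁻¹, le_normalizer_of_mem hg hs', g * n * g⁻¹,
    mul_mem (mul_mem hg hn) (inv_mem hg), m, hm, ?_, by group⟩
  rw [conj_pow, hnm, mul_one, mul_inv_cancel]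

namespace NPair

/-- Commutators lie in the subgroup generated by `gam`. -/
theorem cm_mem_closure (h : NPair hA S E F) (hs : AllSmall hA S) {e f : G} (he : e ∈ E)
    (hf : f ∈ F) : cm e f ∈ closure (gam hA S) := by
  by_cases heF : e ∈ F
  · rw [h.cm_eq_one_left (mem_inf.2 ⟨he, heF⟩) hf]; exact one_mem _
  by_cases hfE : f ∈ E
  · rw [h.cm_eq_one_right he (mem_inf.2 ⟨hfE, hf⟩)]; exact one_mem _
  obtain ⟨c, hc, hcE, hcF⟩ := h.exists_gam
  have h1 : cm c⁻¹ f = cm e f := (h.cm_cases hs he heF hf hfE (inv_mem hcE) hf).resolve_left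
    fun h1 => hcF (by
      simpa using inv_mem (h.twin.left.mem_of_commute (inv_mem hcE) hf hfE (cm_eq_one_iff.1 h1)))
  rw [← h1, show cm c⁻¹ f = c⁻¹ * (f * c * f⁻¹) by simp only [cm]; group]
  exact mul_mem (inv_mem (subset_closure hc))
    (subset_closure (gam_conj (le_normalizer (h.twin.left.cand.le hf)) hc))

/-- So do their conjugates under `N(E)`. -/
theorem conj_cm_mem_closure (h : NPair hA S E F) (hs : AllSmall hA S) {e f m : G} (he : e ∈ E)
    (hf : f ∈ F) (hm : m ∈ normalizer (E : Set G)) : m * cm e f * m⁻¹ ∈ closure (gam hA S) := by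
  by_cases heF : e ∈ F
  · rw [h.cm_eq_one_left (mem_inf.2 ⟨he, heF⟩) hf]; simp
  by_cases hfE : f ∈ E
  · rw [h.cm_eq_one_right he (mem_inf.2 ⟨hfE, hf⟩)]; simp
  have hd := h.twin.left.cm_mem he hf
  have hE : m * cm e f * m⁻¹ ∈ E := le_normalizer_of_mem hm hd.1
  by_cases hF : m * cm e f * m⁻¹ ∈ F
  · set P := h.twin.left.candE.sylL hA
    by_cases hfix : autOf E hm • P = P
    · rw [h.conj_d hs he heF hf hfE hm hfix]; exact h.cm_mem_closure hs he hf
    exfalso
    haveI : Fact (Nat.Prime 2) := ⟨Nat.prime_two⟩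
    have hxi : (autOf E hm)⁻¹ • P ≠ P := fun e' => hfix (inv_smul_eq_iff.1 e').symm
    refine heF (h.twin.left.mem_of_cm_core he hf hfE ?_)
    refine (h.twin.left.zed_eq_core2 hxi (z := ⟨cm e f, hd.1⟩)).1
      (mem_inf.2 ⟨h.twin.left.mem_fixW_iff.2 hd.2, ?_⟩)
    rw [mem_shift, inv_inv]
    exact h.twin.left.mem_fixW_iff.2 hF
  · exact subset_closure ⟨E, F, h, hE, hF, e, he, f, hf, m, hm, rfl⟩

end NPair

/-- With small pairs a non-trivial abelian subgroup is strongly closed, or `S` is dihedral. -/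
theorem closed_or_dihedral [IsSimpleGroup G] (hG : ¬ IsMulCommutative G)
    (hna : ¬ IsMulCommutative ↥(S : Subgroup G)) (hs : AllSmall hA S) (h : NPair hA S E F) :
    (∃ T : Subgroup G, T ≠ ⊥ ∧ IsMulCommutative T ∧ Cfsg.IsStronglyClosed T (S : Subgroup G)) ∨
      ∃ m : ℕ, 2 ≤ m ∧ Nonempty (↥(S : Subgroup G) ≃* DihedralGroup m) := by
  haveI : Fact (Nat.Prime 2) := ⟨Nat.prime_two⟩
  have hess : ∀ X : Subgroup G, Ess hA S X → ∃ Y, NPair hA S X Y := fun X hX =>
    exists_nPair hX (not_normal_of_small hs h hX)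
  set K := closure (kSet S) with hK
  have hKE : ∀ {X Y : Subgroup G}, NPair hA S X Y → K ≤ core2 X := fun hXY =>
    (closure_le _).2 fun z hz => kSet_core hs hXY hz
  by_cases hK1 : K = ⊥
  swap
  · have hKle : K ≤ E := (hKE h).trans (h.twin.left.core2_le.trans inf_le_left)
    refine Or.inl ⟨K, hK1, ⟨⟨fun a b => Subtype.ext (h.twin.left.candE.comm a (hKle a.2) b (hKle b.2))⟩⟩,
      stronglyClosed_of hA hna (hKle.trans h.twin.left.candE.le) (fun n hn x hx => ?_)
        fun X hX n hn x hx hxX => ?_⟩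
    · have h1 : K.map (MulAut.conj n).toMonoidHom ≤ K := by
        rw [hK, MonoidHom.map_closure, closure_le]
        rintro _ ⟨y, hy, rfl⟩
        exact subset_closure (conj_kSet hn hy)
      exact h1 ⟨x, hx, rfl⟩
    · obtain ⟨Y, hXY⟩ := hess X hX
      obtain ⟨k, hk, hkz, -⟩ := hXY.exists_near hs hn
      rw [hkz x (hKE hXY hx)]
      have h1 : K.map (MulAut.conj k).toMonoidHom ≤ K := by
        rw [hK, MonoidHom.map_closure, closure_le]
        rintro _ ⟨y, hy, rfl⟩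
        exact subset_closure (conj_kSet hk.2 hy)
      exact h1 ⟨x, hx, rfl⟩
  right
  -- elements of odd order centralise `S`, so `N(S)` induces inner automorphisms
  have hinn : ∀ n ∈ normalizer ((S : Subgroup G) : Set G), ∃ t ∈ (S : Subgroup G),
      ∀ x ∈ (S : Subgroup G), n * x * n⁻¹ = t * x * t⁻¹ := by
    intro n hn
    obtain ⟨a, b, hb, hab⟩ := Nat.exists_eq_two_pow_mul_odd (orderOf_pos n).ne'
    have hg : Nat.gcd (2 ^ a) b = 1 :=
      Nat.Coprime.pow_left a ((Nat.coprime_two_left).2 hb)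
    have hbez : (1 : ℤ) = (2 ^ a : ℕ) * Nat.gcdA (2 ^ a) b + (b : ℕ) * Nat.gcdB (2 ^ a) b := by
      rw [← Nat.gcd_eq_gcd_ab, hg]; rfl
    have ht : n ^ b ∈ (S : Subgroup G) := mem_of_twoElement_normalizer S (k := a)
      (by rw [← pow_mul, mul_comm, ← hab, pow_orderOf_eq_one]) (pow_mem hn b)
    have hodd : ∀ x ∈ (S : Subgroup G), n ^ 2 ^ a ∈ centralizer ({x} : Set G) := by
      intro x hx
      have h1 : x⁻¹ * (n ^ 2 ^ a * x * (n ^ 2 ^ a)⁻¹) ∈ K := subset_closure
        ⟨x, hx, n ^ 2 ^ a, pow_mem hn _, b, hb, by rw [← pow_mul, ← hab, pow_orderOf_eq_one], rfl⟩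
      rw [hK1, mem_bot, inv_mul_eq_one] at h1
      rw [mem_centralizer_singleton_iff]
      exact (mul_inv_eq_iff_eq_mul.1 h1.symm)
    refine ⟨(n ^ b) ^ Nat.gcdB (2 ^ a) b, zpow_mem ht _, fun x hx => ?_⟩
    set t := (n ^ b) ^ Nat.gcdB (2 ^ a) b with ht'
    set o := (n ^ 2 ^ a) ^ Nat.gcdA (2 ^ a) b with ho'
    have hn' : n = o * t := by
      conv_lhs => rw [← zpow_one n, hbez, zpow_add, zpow_mul, zpow_mul, zpow_natCast, zpow_natCast]
    have h2 := mem_centralizer_singleton_iff.1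
      (zpow_mem (hodd _ (mul_mem (mul_mem (zpow_mem ht _) hx) (inv_mem (zpow_mem ht _))))
        (Nat.gcdA (2 ^ a) b) : o ∈ centralizer ({t * x * t⁻¹} : Set G))
    conv_lhs => rw [hn']
    calc o * t * x * (o * t)⁻¹ = o * (t * x * t⁻¹) * o⁻¹ := by group
      _ = _ := by rw [h2, mul_inv_cancel_right]
  -- the focal bound
  set D := closure (gam hA S) with hD
  have hDS : D ≤ (S : Subgroup G) := (closure_le _).2 fun c hc => gam_le hs hc
  set L := (D.subgroupOf (S : Subgroup G) ⊔ commutator ↥(S : Subgroup G)).map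
    (S : Subgroup G).subtype with hL
  have hcomm : ∀ x ∈ (S : Subgroup G), ∀ n ∈ normalizer ((S : Subgroup G) : Set G),
      x * (n * x * n⁻¹)⁻¹ ∈ L := by
    intro x hx n hn
    obtain ⟨t, ht, he⟩ := hinn n hn
    rw [he x hx]
    refine ⟨⁅(⟨x, hx⟩ : ↥(S : Subgroup G)), ⟨t, ht⟩⁆, mem_sup_right ?_, ?_⟩
    · rw [_root_.commutator_def]; exact commutator_mem_commutator (mem_top _) (mem_top _)
    · simp only [Subgroup.coe_subtype, commutatorElement_def, Subgroup.coe_mul, InvMemClass.coe_inv]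
      group
  have hSL : (S : Subgroup G) ≤ L := by
    refine sylow_le_of hG hA hna L (fun n hn x hx => hcomm x hx n hn) fun X hX n hn x hx => ?_
    obtain ⟨Y, hXY⟩ := hess X hX
    obtain ⟨k, hk, -, hkx⟩ := hXY.exists_near hs hn
    obtain ⟨e, he, f, hf, m, hm, heq⟩ := hkx x hx
    set δ := m * cm e f * m⁻¹ with hδ
    have hδX : δ ∈ X := le_normalizer_of_mem hm (hXY.twin.left.cm_mem he hf).1
    rw [heq, mul_inv_rev, ← mul_assoc, hXY.twin.left.candE.comm x hx _ (inv_mem hδX), mul_assoc]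
    refine mul_mem ?_ (hcomm x (hXY.twin.left.candE.le hx) k hk.2)
    have h1 := hXY.conj_cm_mem_closure hs he hf hm
    exact ⟨⟨δ⁻¹, inv_mem (hDS h1)⟩, mem_sup_left (inv_mem h1), rfl⟩
  have hDeq : D = (S : Subgroup G) := by
    refine le_antisymm hDS ?_
    have h1 : D.subgroupOf (S : Subgroup G) ⊔ commutator ↥(S : Subgroup G) = ⊤ := by
      refine top_le_iff.1 fun x _ => ?_
      obtain ⟨y, hy, hyx⟩ := hSL x.2
      exact (Subtype.ext hyx : y = x) ▸ hy
    have h2 := frattini_nongenerating (top_le_iff.1 (h1.symm.le.trans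
      (sup_le_sup_left (PGroups.commutator_le_frattini S.2) _)))
    rwa [subgroupOf_eq_top] at h2
  obtain ⟨c, hc, -⟩ := h.exists_gam
  obtain ⟨⟨a, ha, b, hb, hab⟩, -⟩ := Soft.main _ _ _ le_rfl (soft hs ⟨c, hc⟩)
  have hcl : closure ({(a : G), (b : G)} : Set G) = (S : Subgroup G) := by
    have := congrArg (Subgroup.map D.subtype) hab
    rw [MonoidHom.map_closure, Set.image_pair, ← MonoidHom.range_eq_map, Subgroup.range_subtype] at this
    exact this.trans hDeq
  have hncom : ¬ (a : G) * b = b * a := by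
    intro hcab
    refine hna ⟨⟨fun p q => Subtype.ext ?_⟩⟩
    have hle : closure ({(a : G), (b : G)} : Set G) ≤
        centralizer ({(a : G), (b : G)} : Set G) := by
      rw [closure_le]
      rintro z (rfl | rfl) <;> rw [SetLike.mem_coe, mem_centralizer_iff] <;>
        rintro w (rfl | rfl) <;> first | rfl | exact hcab | exact hcab.symm
    have hp : ∀ s ∈ (S : Subgroup G), s ∈ centralizer ({(a : G), (b : G)} : Set G) :=
      fun s hs' => hle (hcl.symm ▸ hs')
    have hle2 : closure ({(a : G), (b : G)} : Set G) ≤ centralizer ({(p : G)} : Set G) := by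
      rw [closure_le]
      intro w hw
      rw [SetLike.mem_coe, mem_centralizer_singleton_iff]
      exact mem_centralizer_iff.1 (hp p p.2) w hw
    exact (mem_centralizer_singleton_iff.1 (hle2 (hcl.symm ▸ q.2))).symm
  have ha1 : orderOf (a : G) = 2 := orderOf_eq_prime (by rw [sq]; exact gam_invol hs ha)
    fun e => hncom (by rw [e, one_mul, mul_one])
  have hb1 : orderOf (b : G) = 2 := orderOf_eq_prime (by rw [sq]; exact gam_invol hs hb)
    fun e => hncom (by rw [e, one_mul, mul_one])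
  refine ⟨orderOf ((a : G) * b), ?_, ⟨(MulEquiv.subgroupCongr hcl.symm).trans
    (Involutions.Basic.closurePairEquiv ha1 hb1)⟩⟩
  have h0 : 0 < orderOf ((a : G) * b) := orderOf_pos _
  have h1 : orderOf ((a : G) * b) ≠ 1 := fun e => hncom (by
    rw [orderOf_eq_one_iff] at e
    have : (b : G) = (a : G)⁻¹ := (inv_eq_of_mul_eq_one_right e).symm
    rw [this]; group)
  omega

end Cfsg.Agent.Lib.AbelInter85
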