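import Cfsg.Agent.Lib.AbelInter85.Closed
import Cfsg.Agent.Lib.AbelInter85.Big
import Cfsg.Agent.Lib.BenderConsumers23.Simple
import Cfsg.Agent.Lib.BenderOne.Final
import Cfsg.Agent.Lib.BenderSuzuki.Main
import Cfsg.Agent.S1132
import Cfsg.Agent.S1138

/-!
# Simple groups with abelian Sylow 2-intersections

A Sylow 2-subgroup is dihedral or of class at most two, given Goldschmidt's theorem on strongly closed
abelian 2-subgroups (`GoldStatement`, the statement of S1169).
-/

set_option autoImplicit false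
set_option linter.unusedSectionVars false

universe u

namespace Cfsg.Agent.Lib.AbelInter85

open Subgroup Cfsg.Agent.Lib.Fusion.Alperin
open scoped commutatorElement

/-- Goldschmidt's theorem on strongly closed abelian 2-subgroups, in the form of S1169. -/
def GoldStatement : Prop :=
  ∀ (G : Type u) [Group G] [Finite G] [IsSimpleGroup G] (S : Sylow 2 G) (A : Subgroup G), A ≠ ⊥ →
    IsMulCommutative A → Cfsg.IsStronglyClosed A (S : Subgroup G) →
      IsMulCommutative (S : Subgroup G) ∨ ∃ H : Subgroup G, Cfsg.IsStronglyEmbedded H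

variable {G : Type u} [Group G] [Finite G] {S : Sylow 2 G} {hA : AI G}

/-- Without non-normal essential subgroups `S` has class two or a strongly closed abelian subgroup. -/
theorem closed_or_class_two (hG : ¬ IsMulCommutative G) [IsSimpleGroup G]
    (hna : ¬ IsMulCommutative ↥(S : Subgroup G))
    (hno : ∀ E, Ess hA S E → (S : Subgroup G) ≤ normalizer (E : Set G)) :
    (∃ T : Subgroup G, T ≠ ⊥ ∧ IsMulCommutative T ∧ Cfsg.IsStronglyClosed T (S : Subgroup G)) ∨
      commutator ↥(S : Subgroup G) ≤ center ↥(S : Subgroup G) := by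
  haveI : Fact (Nat.Prime 2) := ⟨Nat.prime_two⟩
  by_cases hE : ∃ E, Ess hA S E
  · obtain ⟨E, hE⟩ := hE
    by_cases hu : ∀ X, Ess hA S X → X = E
    · refine Or.inl ⟨E, fun e => ?_, ⟨⟨fun a b => Subtype.ext (hE.1.comm a a.2 b b.2)⟩⟩,
        stronglyClosed_of hA hna hE.1.le (fun n hn x hx => ?_) fun X hX n hn x hx _ => ?_⟩
      · refine hna ⟨⟨fun p q => Subtype.ext ?_⟩⟩
        have hp : (p : G) = 1 := mem_bot.1 (e ▸ hE.1.cen p p.2 fun x hx => by
          rw [mem_bot.1 (e ▸ hx : x ∈ (⊥ : Subgroup G)), mul_one, one_mul])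
        show (p : G) * q = q * p
        rw [hp, one_mul, mul_one]
      · exact (hu _ (hE.conj hn)) ▸ conj_mem_conjS hx
      · rw [hu X hX] at hn
        exact le_normalizer_of_mem hn hx
    · push Not at hu
      obtain ⟨X, hX, hne⟩ := hu
      obtain ⟨E, F, hE, hF, hne, hcard⟩ : ∃ E F : Subgroup G, Ess hA S E ∧ Ess hA S F ∧ E ≠ F ∧
          Nat.card E ≤ Nat.card F := by
        rcases le_total (Nat.card E) (Nat.card X) with h | h
        · exact ⟨E, X, hE, hX, hne.symm, h⟩
        · exact ⟨X, E, hX, hE, hne, h⟩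
      have hP : Paired hA S E F :=
        ⟨hE, hF.1, hcard, hF.1.le.trans (hno E hE), hE.1.le.trans (hno F hF), hne⟩
      have hT : Twin hA S E F :=
        ⟨hP, hF, hE.1, hP.card_eq.ge, hP.nE, hP.nF, hne.symm⟩
      have hU : ∀ s ∈ (S : Subgroup G), s ∈ uS S E := fun s hs => mem_inf.2 ⟨hs, hno E hE hs⟩
      refine Or.inr ?_
      rw [_root_.commutator_def, Subgroup.commutator_le]
      rintro a - b -
      refine mem_center_iff.2 fun c => Subtype.ext ?_
      have hz := hT.cm_mem_inf (hU a a.2) (hU b b.2)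
      have h1 := (hT.mem_inf_iff.1 hz).2 c (hU c c.2)
      simp only [commutatorElement_def, Subgroup.coe_mul, InvMemClass.coe_inv]
      exact h1.symm
  · push Not at hE
    refine Or.inl ⟨(center ↥(S : Subgroup G)).map (S : Subgroup G).subtype, fun e => ?_,
      ⟨⟨?_⟩⟩, stronglyClosed_of hA hna (map_subtype_le _) (fun n hn x hx => ?_)
        fun X hX => absurd hX (hE X)⟩
    · rw [map_eq_bot_iff_of_injective _ (Subtype.coe_injective)] at e
      haveI : Nontrivial ↥(S : Subgroup G) := not_subsingleton_iff_nontrivial.1 fun hs =>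
        hna ⟨⟨fun p q => Subsingleton.elim _ _⟩⟩
      haveI := S.2.center_nontrivial
      exact Subgroup.nontrivial_iff_ne_bot _ |>.1 this e
    · rintro ⟨_, p, hp, rfl⟩ ⟨_, q, -, rfl⟩
      exact Subtype.ext (congrArg Subtype.val (mem_center_iff.1 hp q)).symm
    · obtain ⟨p, hp, rfl⟩ := hx
      refine ⟨⟨n * p * n⁻¹, le_normalizer_of_mem hn p.2⟩, mem_center_iff.2 fun q => Subtype.ext ?_, rfl⟩
      have h1 := congrArg Subtype.val
        (mem_center_iff.1 hp ⟨n⁻¹ * q * n, (mem_normalizer_iff''.1 hn _).1 q.2⟩)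
      simp only [Subgroup.coe_mul] at h1 ⊢
      calc (q : G) * (n * p * n⁻¹) = n * (n⁻¹ * q * n * p) * n⁻¹ := by group
        _ = n * (p * (n⁻¹ * q * n)) * n⁻¹ := by rw [h1]
        _ = _ := by group

/-- The three possibilities. -/
theorem trichotomy [IsSimpleGroup G] (hG : ¬ IsMulCommutative G) (hA : AI G)
    (hna : ¬ IsMulCommutative ↥(S : Subgroup G)) :
    (∃ T : Subgroup G, T ≠ ⊥ ∧ IsMulCommutative T ∧ Cfsg.IsStronglyClosed T (S : Subgroup G)) ∨
      (∃ m : ℕ, 2 ≤ m ∧ Nonempty (↥(S : Subgroup G) ≃* DihedralGroup m)) ∨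
        commutator ↥(S : Subgroup G) ≤ center ↥(S : Subgroup G) := by
  by_cases hn : ∃ E, Ess hA S E ∧ ¬ (S : Subgroup G) ≤ normalizer (E : Set G)
  · obtain ⟨E, hE, hnn⟩ := hn
    obtain ⟨F, hEF⟩ := exists_nPair hE hnn
    by_cases hs : AllSmall hA S
    · exact (closed_or_dihedral hG hna hs hEF).imp id Or.inl
    · exfalso
      unfold AllSmall at hs
      push Not at hs
      obtain ⟨E', F', h', h4⟩ := hs
      exact h'.twin.false_of_big hG hna h'.left h4
  · push Not at hn
    exact (closed_or_class_two hG hna hn).imp id Or.inr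

theorem class_two_of_equiv {P Q : Type*} [Group P] [Group Q] (e : P ≃* Q)
    (h : ∀ x y : P, x⁻¹ * y⁻¹ * x * y ∈ center P) : commutator Q ≤ center Q := by
  rw [_root_.commutator_def, Subgroup.commutator_le]
  rintro a - b -
  refine mem_center_iff.2 fun c => e.symm.injective ?_
  have h1 := mem_center_iff.1 (h (e.symm a)⁻¹ (e.symm b)⁻¹) (e.symm c)
  simp only [inv_inv] at h1
  simpa [commutatorElement_def] using h1

/-- A simple group with a strongly embedded subgroup has Sylow 2-subgroups of class at most two. -/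
theorem class_two_of_stronglyEmbedded [IsSimpleGroup G] (hG : ¬ IsMulCommutative G) (S : Sylow 2 G)
    {H : Subgroup G} (hH : Cfsg.IsStronglyEmbedded H) :
    commutator ↥(S : Subgroup G) ≤ center ↥(S : Subgroup G) := by
  haveI : Fact (Nat.Prime 2) := ⟨Nat.prime_two⟩
  have hna := BenderConsumers23.na_of_not_comm hG
  obtain ⟨-, t, Q, hS, S', hSQ⟩ := BenderConsumers23.simple_case BenderOne.propPartOneFinal
    BenderSuzuki.propMain hna hH
  have hcore := BenderConsumers23.normalCore_eq_bot hH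
  haveI : FaithfulSMul G (G ⧸ H) := ⟨fun {g g'} h => by
    have hmem : g⁻¹ * g' ∈ H.normalCore := by
      intro x
      have := QuotientGroup.eq.1
        (show ((g * x⁻¹ : G) : G ⧸ H) = ((g' * x⁻¹ : G) : G ⧸ H) from h ((x⁻¹ : G) : G ⧸ H))
      rwa [show (g * x⁻¹)⁻¹ * (g' * x⁻¹) = x * (g⁻¹ * g') * x⁻¹ by group] at this
    rw [hcore, mem_bot] at hmem
    exact inv_mul_eq_one.1 hmem⟩
  have hQ2 : IsPGroup 2 ↥Q := hSQ ▸ S'.2
  obtain ⟨P⟩ : Nonempty (Sylow 2 ↥Q) := inferInstance
  have htop : (P : Subgroup ↥Q) = ⊤ := (P.is_maximal' (hQ2.to_subgroup ⊤) le_top).symm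
  set e : ↥(P : Subgroup ↥Q) ≃* ↥(S : Subgroup G) := (MulEquiv.subgroupCongr htop).trans
    (Subgroup.topEquiv.trans ((MulEquiv.subgroupCongr hSQ.symm).trans (Sylow.equiv S' S)))
  rcases Cfsg.Agent.S1132.result hS (BenderConsumers23.twoRank_of_simple hna hH) P with hc | hs
  · exact class_two_of_equiv e fun x y => mem_center_iff.2 fun z => hc.is_comm.comm _ _
  · exact class_two_of_equiv e (Cfsg.Agent.S1138.result hs).2.1

/-- S3186, given Goldschmidt's theorem. -/
theorem row3186 (hGold : GoldStatement.{u}) [IsSimpleGroup G] (hG : ¬ IsMulCommutative G)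
    (hA : AI G) (S : Sylow 2 G) :
    (∃ m : ℕ, 2 ≤ m ∧ Nonempty (↥(S : Subgroup G) ≃* DihedralGroup m)) ∨
      commutator ↥(S : Subgroup G) ≤ center ↥(S : Subgroup G) := by
  by_cases hab : IsMulCommutative ↥(S : Subgroup G)
  · exact Or.inr fun x _ => mem_center_iff.2 fun y => hab.is_comm.comm _ _
  rcases trichotomy hG hA hab with ⟨T, hT, hTc, hTs⟩ | h | h
  · rcases hGold G S T hT hTc hTs with hc | ⟨H, hH⟩
    · exact absurd hc hab
    · exact Or.inr (class_two_of_stronglyEmbedded hG S hH)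
  · exact Or.inl h
  · exact Or.inr h

end Cfsg.Agent.Lib.AbelInter85
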