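import Cfsg.Agent.Lib.AbelInter85.Small

/-!
# Abelian Sylow 2-intersections: with small pairs no essential subgroup is normal in `S`
-/

set_option autoImplicit false
set_option linter.unusedSectionVars false

namespace Cfsg.Agent.Lib.AbelInter85

open Subgroup Cfsg.Agent.Lib.Fusion.Alperin

variable {G : Type*} [Group G] [Finite G] {S : Sylow 2 G} {E F : Subgroup G} {hA : AI G}

theorem gam_invol (hs : AllSmall hA S) {c : G} (hc : c ∈ gam hA S) : c * c = 1 := by
  obtain ⟨E, F, -, -, -, hcc, -⟩ := gam_data hs hc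
  exact hcc

theorem gam_inv (hs : AllSmall hA S) {c : G} (hc : c ∈ gam hA S) : c⁻¹ = c :=
  inv_eq_of_mul_eq_one_right (gam_invol hs hc)

/-- A member commuting with `c ∈ E ∖ F` has centraliser `E` in `S`. -/
theorem gam_mem_of_commute (hs : AllSmall hA S) (h : NPair hA S E F) {c d s : G} (hc : c ∈ E)
    (hcF : c ∉ F) (hd : d ∈ gam hA S) (hdc : c * d = d * c) (hs' : s ∈ (S : Subgroup G))
    (hsd : s * d = d * s) : s ∈ E := by
  obtain ⟨E', F', h', hdE, hdF, -⟩ := gam_data hs hd
  obtain ⟨rfl, -⟩ := npair_eq h h' hc hcF hdE hdF hdc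
  exact h'.mem_of_commute hdE hdF hs' hsd

/-- With small pairs no essential subgroup is normal in `S`. -/
theorem not_normal_of_small (hs : AllSmall hA S) (h : NPair hA S E F) {N : Subgroup G}
    (hN : Ess hA S N) : ¬ (S : Subgroup G) ≤ normalizer (N : Set G) := by
  intro hSN
  haveI : Fact (Nat.Prime 2) := ⟨Nat.prime_two⟩
  have hC : Cand S N := hN.1
  have hconj : ∀ {s x : G}, s ∈ (S : Subgroup G) → x ∈ N → s * x * s⁻¹ ∈ N := fun hs' hx =>
    le_normalizer_of_mem (hSN hs') hx
  have hcomm : ∀ {a b : G}, a ∈ N → b ∈ N → a * b = b * a := fun ha hb => hC.comm _ ha _ hb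
  obtain ⟨c, hc, hcE, hcF⟩ := h.exists_gam
  have hcS := gam_le hs hc
  have hcc := gam_invol hs hc
  have hci := gam_inv hs hc
  have hcN : c ∉ N := by
    intro hcN
    have h1 : N ≤ E := fun x hx => h.mem_of_commute hcE hcF (hC.le hx) (hcomm hx hcN)
    have h2 : E ≤ N := fun e he => hC.cen e (h.twin.left.candE.le he) fun x hx =>
      h.twin.left.candE.comm e he x (h1 hx)
    exact h.left ((le_antisymm h1 h2) ▸ hSN)
  obtain ⟨v, hv, hvv, hcv⟩ : ∃ v ∈ N, v * v = 1 ∧ c * v ≠ v * c := by
    by_contra! hall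
    exact hcN (hN.mem_of_fix (mem_inf.2 ⟨hcS, hSN hcS⟩) hall)
  have hvi : v⁻¹ = v := inv_eq_of_mul_eq_one_right hvv
  have hcN' : ∀ {x : G}, x ∈ N → c * x * c ∈ N := fun {x} hx => by
    have := hconj hcS hx; rwa [hci] at this
  have hc' : v * c * v ∈ gam hA S := by
    have := gam_conj (le_normalizer (hC.le hv)) hc
    rwa [hvi] at this
  -- `u = c c'`
  set u := c * (v * c * v) with hu
  have hu' : u = v * c * v * c := by
    calc u = (c * v * c) * v := by rw [hu]; group
      _ = v * (c * v * c) := hcomm (hcN' hv) hv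
      _ = _ := by group
  have huN : u ∈ N := by
    have := mul_mem (hcN' hv) hv
    rwa [show c * v * c * v = u by rw [hu]; group] at this
  have hcc' : c * (v * c * v) = v * c * v * c := hu.symm.trans hu'
  have hne : v * c * v ≠ c := fun e => hcv (by
    calc c * v = v * c * v * v := by rw [e]
      _ = v * c := by rw [mul_assoc, hvv, mul_one])
  have hpair : ∀ d ∈ gam hA S, c * d = d * c → d = c ∨ d = v * c * v := by
    intro d hd hcd
    by_contra! hd'
    have := (soft hs ⟨c, hc⟩).pair ⟨c, subset_closure hc⟩ hc ⟨d, subset_closure hd⟩ hd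
      ⟨v * c * v, subset_closure hc'⟩ hc' (Subtype.ext hcd) (Subtype.ext hcc')
      (fun e => hd'.1 (congrArg Subtype.val e)) (fun e => hne (congrArg Subtype.val e))
    exact hd'.2 (congrArg Subtype.val this)
  by_cases hNE : N ≤ normalizer (E : Set G)
  · rcases h.twin.eq_or_eq hC (le_inf hC.le hNE) hv hvv
        (fun hz => hcv (h.twin.left.candE.comm c hcE v hz.1)) with e | e
    · exact h.left (e ▸ hSN)
    · exact h.right (e ▸ hSN)
  obtain ⟨x, hx, hxE⟩ := SetLike.not_le_iff_exists.1 hNE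
  set g : G → G := fun z => z * (c * z⁻¹ * c) with hg
  have hgN : ∀ {z : G}, z ∈ N → g z ∈ N := fun hz => mul_mem hz (hcN' (inv_mem hz))
  have hgmul : ∀ {z w : G}, z ∈ N → w ∈ N → g (z * w) = g z * g w := by
    intro z w hz hw
    simp only [hg]
    calc z * w * (c * (z * w)⁻¹ * c)
        = z * (w * (c * w⁻¹ * c) * (c * z⁻¹ * c)) := by
          rw [show w * (c * w⁻¹ * c) * (c * z⁻¹ * c) = w * c * w⁻¹ * (c * c) * z⁻¹ * c by group, hcc]
          group
      _ = z * ((c * z⁻¹ * c) * (w * (c * w⁻¹ * c))) := by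
          rw [hcomm (hgN hw) (hcN' (inv_mem hz))]
      _ = _ := by group
  have hgpow : ∀ (n : ℕ) {z : G}, z ∈ N → g (z ^ n) = g z ^ n := by
    intro n z hz
    induction n with
    | zero => simp [hg, hcc]
    | succ n ih => rw [pow_succ, pow_succ, hgmul (pow_mem hz n) hz, ih]
  have hinvol : ∀ {z : G}, z ∈ N → g z * g z = 1 →
      c * (z * c * z⁻¹) = z * c * z⁻¹ * c := by
    intro z hz hzz
    have hzg : g z = z * c * z⁻¹ * c := by simp only [hg]; group
    have h1 : (z * c * z⁻¹ * c)⁻¹ = z * c * z⁻¹ * c := by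
      rw [← hzg]; exact inv_eq_of_mul_eq_one_right hzz
    rw [mul_inv_rev, mul_inv_rev, mul_inv_rev, inv_inv, hci] at h1
    simpa [mul_assoc] using h1
  have hgx : g x * g x ≠ 1 := by
    intro hxx
    refine hxE (mem_normalizer_fintype fun e he => ?_)
    refine gam_mem_of_commute hs h hcE hcF (gam_conj (le_normalizer (hC.le hx)) hc) (hinvol hx hxx)
      (mul_mem (mul_mem (hC.le hx) (h.twin.left.candE.le he)) (inv_mem (hC.le hx))) ?_
    calc x * e * x⁻¹ * (x * c * x⁻¹) = x * (e * c) * x⁻¹ := by group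
      _ = x * (c * e) * x⁻¹ := by rw [h.twin.left.candE.comm e he c hcE]
      _ = _ := by group
  obtain ⟨k, hk⟩ := S.2 ⟨g x, hC.le (hgN hx)⟩
  have hk' : g x ^ 2 ^ k = 1 := congrArg Subtype.val hk
  obtain ⟨k₀, -, hord⟩ :=
    (Nat.dvd_prime_pow Nat.prime_two).1 (orderOf_dvd_of_pow_eq_one hk')
  obtain ⟨j, rfl⟩ : ∃ j, k₀ = j + 2 := by
    refine ⟨k₀ - 2, ?_⟩
    by_contra hlt
    refine hgx ?_
    rw [← sq, ← orderOf_dvd_iff_pow_eq_one, hord]
    calc 2 ^ k₀ ∣ 2 ^ 1 := pow_dvd_pow 2 (by omega)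
      _ = 2 := pow_one 2
  set x' := x ^ 2 ^ j with hx'
  have hx'N : x' ∈ N := pow_mem hx _
  set w := g x' with hw
  have hw' : w = g x ^ 2 ^ j := hgpow _ hx
  have hw2 : w * w ≠ 1 := by
    rw [hw', ← pow_add, ← two_mul, ← pow_succ', Ne, ← orderOf_dvd_iff_pow_eq_one, hord,
      Nat.pow_dvd_pow_iff_le_right (by norm_num)]
    omega
  have hw4 : g (x' * x') * g (x' * x') = 1 := by
    rw [hgmul hx'N hx'N, ← hw, hw']
    simp only [← pow_add]
    rw [← orderOf_dvd_iff_pow_eq_one, hord]
    exact dvd_of_eq (by ring)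
  have hwu : w * w = u := by
    set z := x' * x' with hz
    have hzN : z ∈ N := mul_mem hx'N hx'N
    have hgz : g z = z * c * z⁻¹ * c := by simp only [hg]; group
    have h1 : g z = w * w := hgmul hx'N hx'N
    rcases hpair _ (gam_conj (le_normalizer (hC.le hzN)) hc) (hinvol hzN hw4) with e | e
    · exact absurd (by rw [← h1, hgz, e, hcc]) hw2
    · rw [← h1, hgz, e, ← hu']
  set f := w * c with hf
  have hfg : f ∈ gam hA S := by
    have := gam_conj (le_normalizer (hC.le hx'N)) hc
    rwa [show x' * c * x'⁻¹ = f by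
      rw [hf, hw]; simp only [hg]
      rw [show x' * (c * x'⁻¹ * c) * c = x' * c * x'⁻¹ * (c * c) by group, hcc, mul_one]] at this
  have hwN : w ∈ N := hgN hx'N
  have hcw : c * w * c = w⁻¹ := by
    rw [hw]; simp only [hg]
    calc c * (x' * (c * x'⁻¹ * c)) * c = c * x' * c * x'⁻¹ * (c * c) := by group
      _ = (x' * (c * x'⁻¹ * c))⁻¹ := by rw [hcc, mul_inv_rev, mul_inv_rev, mul_inv_rev, inv_inv, hci]; group
  set y := w * v with hy
  have hyN : y ∈ N := mul_mem hwN hv
  have hcy : c * y = y * c := by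
    have h1 : c * y * c = y := by
      calc c * y * c = (c * w * c) * (c * v * c) := by
            rw [hy, show c * w * c * (c * v * c) = c * w * (c * c) * v * c by group, hcc]; group
        _ = w⁻¹ * (u * v) := by
            rw [hcw, hu, show c * (v * c * v) * v = c * v * c * (v * v) by group, hvv, mul_one]
        _ = y := by rw [← hwu, hy]; group
    calc c * y = c * y * c * c := by rw [mul_assoc (c * y), hcc, mul_one]
      _ = y * c := by rw [h1]
  have hfy : y * f = f * y := by
    rw [hf, ← mul_assoc, hcomm hyN hwN, mul_assoc, ← hcy, ← mul_assoc]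
  have hwcw : w * c * w = c := by
    calc w * c * w = w * (c * w * c) * c := by
          rw [show w * (c * w * c) * c = w * c * w * (c * c) by group, hcc, mul_one]
      _ = c := by rw [hcw, mul_inv_cancel, one_mul]
  have hfcf : f * c * f = v * c * v := by
    calc f * c * f = w * (c * c) * w * c := by rw [hf]; group
      _ = u * c := by rw [hcc, mul_one, hwu]
      _ = v * c * v := by rw [hu', mul_assoc, hcc, mul_one]
  refine gam_noSqrt hs hc hfg (by rw [hfcf]; exact hcc') ?_ (hC.le hyN) hcy.symm hfy ?_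
  · intro hcf
    refine hne ?_
    rw [← hfcf, ← hcf, mul_assoc, gam_invol hs hfg, mul_one]
  · rw [hfcf, ← hu]
    calc y * y = (w * w) * (v * v) := by
          rw [hy, show w * v * (w * v) = w * (v * w) * v by group, hcomm hv hwN]; group
      _ = u := by rw [hvv, mul_one, hwu]

end Cfsg.Agent.Lib.AbelInter85
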