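import Mathlib.GroupTheory.Sylow
import Mathlib.GroupTheory.Index
import Mathlib.GroupTheory.GroupAction.Basic
import Mathlib.Data.Set.Finite.Lemmas

/-!
# Quadratic offenders in groups whose Sylow subgroups intersect trivially

`L` acts faithfully on a finite abelian group `E`, two distinct Sylow `p`-subgroups of `L` meet
trivially and there are at least two of them, and `A ≤ P` is a non-trivial quadratic subgroup with
`|E : C_E(A)| ≤ |A|`.  Then `A = P` is elementary, `|E : C_E(A)| = |A|`, every Sylow subgroup other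
than `P` is an `A`-conjugate of a given one, the fixed points of two distinct Sylow subgroups meet in
one subgroup `Z` of index `|A|²`, and `[u, a] ∈ Z` only if `u ∈ C_E(A)`.

The proof is elementary: if the pair of conjugates with `W ∩ xW` of minimal index is chosen, then
`xW ∩ axW = W ∩ xW` for every `a ∈ A#`, so `a ↦ [u, a]` embeds `A` into `W / Z`, and the conjugates
`axW` cover `E` outside `W`.
-/

set_option autoImplicit false

namespace Cfsg.Agent.Lib.AbelInter85.Offender

open Subgroup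

variable {L E : Type*} [Group L] [Group E] [MulDistribMulAction L E]

/-- The fixed points of `A`. -/
def fixW (A : Subgroup L) : Subgroup E where
  carrier := {u | ∀ a ∈ A, a • u = u}
  one_mem' := fun a _ => smul_one a
  mul_mem' := fun {u v} hu hv a ha => by rw [smul_mul', hu a ha, hv a ha]
  inv_mem' := fun {u} hu a ha => by rw [smul_inv', hu a ha]

theorem mem_fixW {A : Subgroup L} {u : E} : u ∈ fixW A ↔ ∀ a ∈ A, a • u = u := Iff.rfl

/-- The fixed points of `x A x⁻¹`. -/
def shift (A : Subgroup L) (x : L) : Subgroup E :=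
  (fixW A).comap (MulDistribMulAction.toMonoidHom E x⁻¹)

theorem mem_shift {A : Subgroup L} {x : L} {u : E} : u ∈ shift A x ↔ x⁻¹ • u ∈ fixW A := Iff.rfl

theorem smul_mem_shift {A : Subgroup L} {x y : L} {u : E} :
    y • u ∈ shift A x ↔ u ∈ shift A (y⁻¹ * x) := by
  rw [mem_shift, mem_shift, mul_inv_rev, inv_inv, mul_smul]

/-- The commutator `[u, a]`. -/
def br (a : L) (u : E) : E := u⁻¹ * a • u

theorem smul_eq_mul_br (a : L) (u : E) : a • u = u * br a u := by
  rw [br, mul_inv_cancel_left]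

theorem br_one_left (u : E) : br (1 : L) u = 1 := by rw [br, one_smul, inv_mul_cancel]

theorem br_eq_one_iff {a : L} {u : E} : br a u = 1 ↔ a • u = u := by
  rw [br, inv_mul_eq_one, eq_comm]

theorem index_shift (A : Subgroup L) (x : L) : (shift (E := E) A x).index = (fixW (E := E) A).index :=
  Subgroup.index_comap_of_surjective _ (fun u => ⟨x • u, by simp⟩)

variable {p : ℕ}

/-- The hypotheses. -/
structure Hyp (E : Type*) [Group E] [MulDistribMulAction L E] (P : Sylow p L) (A : Subgroup L) :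
    Prop where
  comm : ∀ u v : E, u * v = v * u
  faith : ∀ l : L, (∀ u : E, l • u = u) → l = 1
  ti : ∀ Q R : Sylow p L, Q ≠ R → (Q : Subgroup L) ⊓ R = ⊥
  le : A ≤ P
  ne : A ≠ ⊥
  quad : ∀ a ∈ A, ∀ u : E, br a u ∈ fixW A
  off : (fixW (E := E) A).index ≤ Nat.card A
  moving : ∃ x : L, x • P ≠ P

namespace Hyp

variable {P : Sylow p L} {A : Subgroup L}

/-- `W ∩ xW`. -/
abbrev zed (E : Type*) [Group E] [MulDistribMulAction L E] (A : Subgroup L) (x : L) : Subgroup E :=
  fixW A ⊓ shift A x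

theorem normal_of_comm (h : Hyp E P A) (H : Subgroup E) : H.Normal :=
  ⟨fun n hn g => by rw [h.comm g n, mul_inv_cancel_right]; exact hn⟩

theorem br_mul (h : Hyp E P A) (a : L) (u v : E) : br a (u * v) = br a u * br a v := by
  rw [br, br, br, mul_inv_rev, smul_mul']
  calc v⁻¹ * u⁻¹ * (a • u * a • v) = v⁻¹ * (u⁻¹ * a • u) * a • v := by group
    _ = (u⁻¹ * a • u) * v⁻¹ * a • v := by rw [h.comm v⁻¹]
    _ = _ := by group

theorem br_pow (h : Hyp E P A) (a : L) (u : E) : ∀ n : ℕ, br a (u ^ n) = br a u ^ n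
  | 0 => by simp [br]
  | n + 1 => by rw [pow_succ, pow_succ, br_mul h, br_pow h a u n]

theorem br_inv (h : Hyp E P A) (a : L) (u : E) : br a u⁻¹ = (br a u)⁻¹ := by
  have := br_mul h a u u⁻¹
  rw [mul_inv_cancel, show br a (1 : E) = 1 by simp [br]] at this
  exact (inv_eq_of_mul_eq_one_right this.symm).symm

theorem br_mul_left (h : Hyp E P A) {a b : L} (ha : a ∈ A) (hb : b ∈ A) (u : E) :
    br (a * b) u = br a u * br b u := by
  conv_lhs => rw [br, mul_smul, smul_eq_mul_br b u, smul_mul', h.quad b hb u a ha,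
    smul_eq_mul_br a u]
  group

theorem br_pow_left (h : Hyp E P A) {a : L} (ha : a ∈ A) (u : E) :
    ∀ n : ℕ, br (a ^ n) u = br a u ^ n
  | 0 => by simp [br_one_left]
  | n + 1 => by rw [pow_succ, pow_succ, br_mul_left h (A.pow_mem ha n) ha, br_pow_left h ha u n]

theorem smul_sylow_ne (h : Hyp E P A) {a x : L} (ha : a ∈ A) (ha1 : a ≠ 1) (hx : x • P ≠ P) :
    (a * x) • P ≠ x • P := by
  intro he
  rw [mul_smul, Sylow.smul_eq_iff_mem_normalizer] at he
  haveI : IsPGroup p (zpowers a) := P.2.to_le (zpowers_le.2 (h.le ha))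
  have haP : a ∈ ((x • P : Sylow p L) : Subgroup L) := by
    have h1 : zpowers a ≤ normalizer (((x • P : Sylow p L) : Subgroup L) : Set L) := zpowers_le.2 he
    have h2 : IsPGroup p (zpowers a ⊔ ((x • P : Sylow p L) : Subgroup L) : Subgroup L) :=
      IsPGroup.to_sup_of_normal_right' this (x • P).2 h1
    exact (x • P).3 h2 le_sup_right ▸ mem_sup_left (mem_zpowers a)
  exact ha1 (mem_bot.1 (h.ti P (x • P) (Ne.symm hx) ▸ ⟨h.le ha, haP⟩))

theorem conj_moving (h : Hyp E P A) {a x : L} (ha : a ∈ A) (ha1 : a ≠ 1) (hx : x • P ≠ P) :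
    (x⁻¹ * a * x) • P ≠ P := fun he => smul_sylow_ne h ha ha1 hx (by
  rw [mul_assoc, mul_smul, inv_smul_eq_iff] at he
  exact he)

variable [Finite L] [Finite E] [Fact p.Prime]

/-- The fixed points of two Sylow subgroups differ. -/
theorem shift_ne (h : Hyp E P A) {x : L} (hx : x • P ≠ P) : shift (E := E) A x ≠ fixW A := by
  intro he
  obtain ⟨a, ha, ha1⟩ := A.bot_or_exists_ne_one.resolve_left h.ne
  set b := x * a * x⁻¹ with hb
  have hbq : ∀ u : E, br b u ∈ fixW A := by
    intro u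
    rw [← he, mem_shift]
    have : x⁻¹ • br b u = br a (x⁻¹ • u) := by
      rw [br, br, hb, smul_mul', smul_inv', ← mul_smul, ← mul_smul]
      group
    rw [this]
    exact h.quad a ha _
  have hbfix : ∀ w ∈ fixW (E := E) A, b • w = w := by
    intro w hw
    rw [← he, mem_shift] at hw
    have := hw a ha
    rw [hb, mul_smul, mul_smul, this, smul_inv_smul]
  have hcomm : Commute a b := by
    have e1 : ∀ u : E, (a * b) • u = u * br a u * br b u := fun u => by
      rw [mul_smul, smul_eq_mul_br b u, smul_mul', hbq u a ha, smul_eq_mul_br a u]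
    have e2 : ∀ u : E, (b * a) • u = u * br b u * br a u := fun u => by
      rw [mul_smul, smul_eq_mul_br a u, smul_mul', hbfix _ (h.quad a ha u), smul_eq_mul_br b u]
    have : (a * b)⁻¹ * (b * a) = 1 := h.faith _ fun u => by
      rw [mul_smul, inv_smul_eq_iff, e1, e2, mul_assoc, mul_assoc, h.comm (br b u)]
    exact inv_mul_eq_one.1 this
  have haP : a ∈ (P : Subgroup L) := h.le ha
  have hbQ : b ∈ ((x • P : Sylow p L) : Subgroup L) := by
    rw [hb]; exact Subgroup.smul_mem_pointwise_smul _ (MulAut.conj x) _ haP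
  have hz : zpowers b ≤ normalizer (zpowers a : Set L) := zpowers_le.2 (by
    rw [mem_normalizer_iff]
    intro y
    constructor
    · rintro ⟨k, rfl⟩
      exact ⟨k, by simp only; rw [(hcomm.zpow_left k).symm.eq, mul_inv_cancel_right]⟩
    · rintro ⟨k, hk⟩
      refine ⟨k, ?_⟩
      simp only at hk ⊢
      have : a ^ k * b = b * y := by rw [hk]; group
      rw [(hcomm.zpow_left k).eq] at this
      exact mul_left_cancel this)
  have hp : IsPGroup p (zpowers a ⊔ zpowers b : Subgroup L) :=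
    IsPGroup.to_sup_of_normal_left' (P.2.to_le (zpowers_le.2 haP))
      ((x • P).2.to_le (zpowers_le.2 hbQ)) hz
  obtain ⟨R, hR⟩ := hp.exists_le_sylow
  have hb1 : b ≠ 1 := fun e => ha1 (by rw [hb, mul_inv_eq_one] at e; exact mul_left_cancel (e.trans (mul_one x).symm))
  have h1 : R = P := by
    by_contra hne
    exact ha1 (mem_bot.1 (h.ti R P hne ▸ ⟨hR (mem_sup_left (mem_zpowers a)), haP⟩))
  have h2 : R = x • P := by
    by_contra hne
    exact hb1 (mem_bot.1 (h.ti R (x • P) hne ▸ ⟨hR (mem_sup_right (mem_zpowers b)), hbQ⟩))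
  exact hx (h2.symm.trans h1)

omit [Fact p.Prime] [Finite L] in
theorem eq_of_index_le {H K : Subgroup E} (hle : H ≤ K) (hi : H.index ≤ K.index) : H = K := by
  refine le_antisymm hle (Subgroup.relIndex_eq_one.1 ?_)
  have h1 := Subgroup.relIndex_mul_index hle
  have h2 : 0 < K.index := Nat.pos_of_ne_zero Subgroup.FiniteIndex.index_ne_zero
  have h3 : 0 < H.relIndex K := Nat.pos_of_ne_zero fun e => by
    rw [e, zero_mul] at h1
    exact Subgroup.FiniteIndex.index_ne_zero h1.symm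
  nlinarith

omit [Fact p.Prime] in
theorem key_of_minimal (h : Hyp E P A) {x : L} (hx : x • P ≠ P)
    (hmin : ∀ y : L, y • P ≠ P → (zed E A x).index ≤ (zed E A y).index)
    {a : L} (ha : a ∈ A) (ha1 : a ≠ 1) : shift A x ⊓ shift A (a * x) = zed E A x := by
  refine (eq_of_index_le (fun z hz => Subgroup.mem_inf.2 ⟨(Subgroup.mem_inf.1 hz).2, ?_⟩) ?_).symm
  · change (a * x)⁻¹ • z ∈ fixW A
    rw [mul_inv_rev, mul_smul, (Subgroup.mem_inf.1 hz).1 _ (A.inv_mem ha)]
    exact (Subgroup.mem_inf.1 hz).2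
  · refine le_trans (hmin _ (conj_moving h ha ha1 hx)) (le_of_eq ?_)
    have hsurj : Function.Surjective (MulDistribMulAction.toMonoidHom E x⁻¹) :=
      fun u => ⟨x • u, inv_smul_smul x u⟩
    rw [← Subgroup.index_comap_of_surjective (zed E A (x⁻¹ * a * x)) hsurj]
    congr 1
    ext u
    change x⁻¹ • u ∈ fixW A ∧ x⁻¹ • u ∈ shift A (x⁻¹ * a * x) ↔
      u ∈ shift A x ∧ u ∈ shift A (a * x)
    rw [mem_shift, mem_shift, mem_shift, ← mul_smul, ← mul_inv_rev,
      show x * (x⁻¹ * a * x) = a * x by group]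

omit [Fact p.Prime] in
theorem br_not_mem (h : Hyp E P A) {x : L}
    (hkey : ∀ a ∈ A, a ≠ 1 → shift A x ⊓ shift A (a * x) = zed E A x)
    {a : L} (ha : a ∈ A) (ha1 : a ≠ 1) {v : E} (hv : v ∈ shift A x) (hb : br a v ∈ zed E A x) :
    v ∈ zed E A x := by
  rw [← hkey a⁻¹ (A.inv_mem ha) (inv_ne_one.2 ha1)]
  refine Subgroup.mem_inf.2 ⟨hv, ?_⟩
  rw [← smul_mem_shift, smul_eq_mul_br]
  exact mul_mem hv hb.2

theorem exists_mem_shift_not_mem (h : Hyp E P A) {x : L} (hx : x • P ≠ P) :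
    ∃ v : E, v ∈ shift A x ∧ v ∉ zed E A x := by
  by_contra! hcon
  exact shift_ne h hx (eq_of_index_le (fun v hv => (hcon v hv).1) (index_shift A x).le)

/-- The map `a ↦ [v, a]` modulo `Z`. -/
def brMap (A : Subgroup L) (x : L) (v : E) (h : ∀ a ∈ A, br a v ∈ fixW A) (a : ↥A) :
    ↥(fixW (E := E) A) ⧸ (zed E A x).subgroupOf (fixW A) :=
  QuotientGroup.mk ⟨br a.1 v, h a.1 a.2⟩

omit [Fact p.Prime] in
theorem brMap_injective (h : Hyp E P A) {x : L}
    (hkey : ∀ a ∈ A, a ≠ 1 → shift A x ⊓ shift A (a * x) = zed E A x)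
    {v : E} (hv : v ∈ shift A x) (hvz : v ∉ zed E A x) :
    Function.Injective (brMap A x v (fun a ha => h.quad a ha v)) := by
  intro a b hab
  by_contra hne
  rw [brMap, brMap, QuotientGroup.eq, mem_subgroupOf] at hab
  simp only [Subgroup.coe_mul, InvMemClass.coe_inv] at hab
  refine hvz (br_not_mem h hkey (A.mul_mem (A.inv_mem a.2) b.2)
    (fun e => hne (Subtype.ext (inv_mul_eq_one.1 e))) hv ?_)
  have he : br (a.1⁻¹ : L) v = (br a.1 v)⁻¹ := by
    refine eq_inv_of_mul_eq_one_left ?_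
    rw [← br_mul_left h (A.inv_mem a.2) a.2, inv_mul_cancel, br_one_left]
  rwa [br_mul_left h (A.inv_mem a.2) b.2, he]

/-- All the numerical facts, first for a minimal `x`. -/
theorem exists_minimal (h : Hyp E P A) : ∃ x : L, x • P ≠ P ∧
    (zed E A x).index = Nat.card A * Nat.card A ∧ (fixW (E := E) A).index = Nat.card A ∧
    ∀ y : L, y • P ≠ P → (zed E A x).index ≤ (zed E A y).index := by
  obtain ⟨x, hx, hmin⟩ := Set.exists_min_image {y : L | y • P ≠ P} (fun y => (zed E A y).index)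
    (Set.toFinite _) h.moving
  refine ⟨x, hx, ?_, ?_, hmin⟩
  all_goals
    obtain ⟨v, hv, hvz⟩ := exists_mem_shift_not_mem h hx
    have hle : Nat.card A ≤ (zed E A x).relIndex (fixW A) :=
      Nat.card_le_card_of_injective _ (brMap_injective h (fun a ha ha1 => key_of_minimal h hx hmin ha ha1) hv hvz)
    have h1 : (zed E A x).relIndex (fixW A) = (shift (E := E) A x).relIndex (fixW A) := by
      rw [zed, inf_comm, Subgroup.inf_relIndex_right]
    have h2 : (shift (E := E) A x).relIndex (fixW A) ≤ (shift (E := E) A x).index :=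
      Nat.le_of_dvd (Nat.pos_of_ne_zero Subgroup.FiniteIndex.index_ne_zero)
        (haveI := normal_of_comm h (shift A x); Subgroup.relIndex_dvd_index_of_normal _ _)
    rw [index_shift] at h2
    have h3 := h.off
  · rw [← Subgroup.relIndex_mul_index (inf_le_left : zed E A x ≤ fixW A)]
    rw [show (zed E A x).relIndex (fixW A) = Nat.card A by omega,
      show (fixW (E := E) A).index = Nat.card A by omega]
  · omega

theorem index_fixW (h : Hyp E P A) : (fixW (E := E) A).index = Nat.card A :=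
  (exists_minimal h).choose_spec.2.2.1

theorem index_zed (h : Hyp E P A) {x : L} (hx : x • P ≠ P) :
    (zed E A x).index = Nat.card A * Nat.card A := by
  obtain ⟨x₀, -, h0, -, hmin⟩ := exists_minimal h
  refine le_antisymm ?_ (h0 ▸ hmin x hx)
  refine (Subgroup.index_inf_le ..).trans (le_of_eq ?_)
  rw [index_shift, index_fixW h]

theorem relIndex_zed (h : Hyp E P A) {x : L} (hx : x • P ≠ P) :
    (zed E A x).relIndex (fixW A) = Nat.card A := by
  have h1 := Subgroup.relIndex_mul_index (inf_le_left : zed E A x ≤ fixW A)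
  rw [index_zed h hx, index_fixW h] at h1
  exact Nat.eq_of_mul_eq_mul_right Nat.card_pos h1

theorem key (h : Hyp E P A) {x : L} (hx : x • P ≠ P) {a : L} (ha : a ∈ A) (ha1 : a ≠ 1) :
    shift A x ⊓ shift A (a * x) = zed E A x :=
  key_of_minimal h hx (fun y hy => by rw [index_zed h hx, index_zed h hy]) ha ha1

theorem exists_br (h : Hyp E P A) {x : L} (hx : x • P ≠ P) {v : E} (hv : v ∈ shift A x)
    (hvz : v ∉ zed E A x) {w : E} (hw : w ∈ fixW A) :
    ∃ a ∈ A, (br a v)⁻¹ * w ∈ zed E A x := by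
  have hinj := brMap_injective h (fun a ha ha1 => key h hx ha ha1) hv hvz
  obtain ⟨a, ha⟩ := (hinj.bijective_of_nat_card_le (by
    show Nat.card (↥(fixW (E := E) A) ⧸ _) ≤ _
    exact (relIndex_zed h hx).le)).2 (QuotientGroup.mk ⟨w, hw⟩)
  rw [brMap, QuotientGroup.eq, mem_subgroupOf] at ha
  exact ⟨a, a.2, ha⟩

theorem exists_mul (h : Hyp E P A) {x : L} (hx : x • P ≠ P) (u : E) :
    ∃ w ∈ fixW (E := E) A, ∃ v ∈ shift A x, w * v = u := by
  haveI := normal_of_comm h (fixW A)
  have h1 : fixW A ⊔ shift A x = (⊤ : Subgroup E) := by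
    refine eq_of_index_le le_top ?_
    have e := Subgroup.relIndex_mul_index (le_sup_left : fixW (E := E) A ≤ fixW A ⊔ shift A x)
    have e2 : (fixW (E := E) A).relIndex (fixW A ⊔ shift A x) = Nat.card A := by
      rw [sup_comm, Subgroup.relIndex_sup_right]
      have e3 := Subgroup.relIndex_mul_index (inf_le_right : zed E A x ≤ shift (E := E) A x)
      rw [index_zed h hx, index_shift, index_fixW h] at e3
      rw [← Subgroup.inf_relIndex_right (fixW A) (shift A x)]
      exact Nat.eq_of_mul_eq_mul_right Nat.card_pos e3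
    rw [e2, index_fixW h] at e
    rw [Subgroup.index_top]
    exact (Nat.mul_left_cancel_iff Nat.card_pos).1 (e.trans (mul_one _).symm) |>.le
  exact Subgroup.mem_sup_of_normal_left.1 (h1.symm ▸ mem_top u)

/-- `[u, a] ∈ Z` only for `u ∈ C_E(A)`. -/
theorem mem_fixW_of_br (h : Hyp E P A) {x : L} (hx : x • P ≠ P) {a : L} (ha : a ∈ A) (ha1 : a ≠ 1)
    {u : E} (hb : br a u ∈ zed E A x) : u ∈ fixW A := by
  obtain ⟨w, hw, v, hv, rfl⟩ := exists_mul h hx u
  rw [br_mul h, br_eq_one_iff.2 (hw a ha), one_mul] at hb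
  exact mul_mem hw (br_not_mem h (fun b hb hb1 => key h hx hb hb1) ha ha1 hv hb).1

theorem cover (h : Hyp E P A) {x : L} (hx : x • P ≠ P) (u : E) :
    u ∈ fixW A ∨ ∃ a ∈ A, u ∈ shift A (a * x) := by
  obtain ⟨w, hw, v, hv, rfl⟩ := exists_mul h hx u
  by_cases hvz : v ∈ zed E A x
  · exact Or.inl (mul_mem hw hvz.1)
  obtain ⟨a, ha, haz⟩ := exists_br h hx hv hvz hw
  refine Or.inr ⟨a, ha, ?_⟩
  have e : w * v = a • v * ((br a v)⁻¹ * w) := by
    rw [smul_eq_mul_br, mul_assoc, mul_inv_cancel_left, h.comm]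
  rw [e]
  refine mul_mem (smul_mem_shift.2 (by rwa [inv_mul_cancel_left])) ?_
  rw [mem_shift, mul_inv_rev, mul_smul, haz.1 _ (A.inv_mem ha)]
  exact haz.2

/-- Every other Sylow subgroup is an `A`-conjugate of `xP`. -/
theorem exists_conj (h : Hyp E P A) {x : L} (hx : x • P ≠ P) {y : L} (hy : y • P ≠ P) :
    ∃ a ∈ A, y • P = (a * x) • P := by
  by_contra! hcon
  obtain ⟨c, hc, hc1⟩ := A.bot_or_exists_ne_one.resolve_left h.ne
  obtain ⟨u, hu⟩ : ∃ u : E, br c u ≠ 1 := by
    by_contra! hall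
    exact hc1 (h.faith c fun u => br_eq_one_iff.1 (hall u))
  have hyinv : y⁻¹ • P ≠ P := fun e => hy (inv_smul_eq_iff.1 e).symm
  rcases cover h hx (y • br c u) with hv | ⟨a, ha, hv⟩
  · refine hu (br_eq_one_iff.2 (mem_fixW_of_br h hyinv hc hc1 ⟨h.quad c hc u, ?_⟩ c hc))
    change y⁻¹⁻¹ • br c u ∈ fixW A
    rw [inv_inv]
    exact hv
  · have hz : (y⁻¹ * (a * x)) • P ≠ P := fun e => hcon a ha (by
      rw [mul_smul, inv_smul_eq_iff] at e; exact e.symm)
    exact hu (br_eq_one_iff.2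
      (mem_fixW_of_br h hz hc hc1 ⟨h.quad c hc u, smul_mem_shift.1 hv⟩ c hc))

/-- `A` is a Sylow subgroup. -/
theorem eq_sylow (h : Hyp E P A) : A = (P : Subgroup L) := by
  refine le_antisymm h.le fun g hg => ?_
  obtain ⟨x, hx⟩ := h.moving
  have hgx : (g * x) • P ≠ P := fun e => hx (by
    have hgP : g • P = P := Sylow.smul_eq_iff_mem_normalizer.2 (le_normalizer hg)
    rw [mul_smul] at e
    exact MulAction.injective g (e.trans hgP.symm))
  obtain ⟨a, ha, he⟩ := exists_conj h hx hgx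
  suffices g = a from this ▸ ha
  have hn : (a⁻¹ * g) • (x • P) = x • P := by
    rw [mul_smul, inv_smul_eq_iff, ← mul_smul, ← mul_smul]; exact he
  rw [Sylow.smul_eq_iff_mem_normalizer] at hn
  have hin : a⁻¹ * g ∈ (P : Subgroup L) := mul_mem (inv_mem (h.le ha)) hg
  have hp : IsPGroup p (zpowers (a⁻¹ * g) ⊔ ((x • P : Sylow p L) : Subgroup L) : Subgroup L) :=
    IsPGroup.to_sup_of_normal_right' (P.2.to_le (zpowers_le.2 hin)) (x • P).2 (zpowers_le.2 hn)
  have := (x • P).3 hp le_sup_right ▸ mem_sup_left (mem_zpowers (a⁻¹ * g))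
  exact (inv_mul_eq_one.1 (mem_bot.1 (h.ti P (x • P) (Ne.symm hx) ▸ ⟨hin, this⟩))).symm

theorem shift_of_normalizes (h : Hyp E P A) {n : L} (hn : n • P = P) :
    shift (E := E) A n = fixW A := by
  have key : ∀ {m : L}, m • P = P → ∀ u ∈ fixW (E := E) A, m • u ∈ fixW A := by
    intro m hm u hu a ha
    rw [Sylow.smul_eq_iff_mem_normalizer] at hm
    have : m⁻¹ * a * m ∈ A := by
      rw [eq_sylow h] at ha ⊢
      have := (mem_normalizer_iff.1 (inv_mem hm) a).1 ha
      rwa [inv_inv] at this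
    have := hu _ this
    rwa [mul_smul, mul_smul, inv_smul_eq_iff] at this
  ext u
  rw [mem_shift]
  refine ⟨fun hu => ?_, key (inv_smul_eq_iff.2 hn.symm) u⟩
  have := key hn _ hu
  rwa [smul_inv_smul] at this

/-- `W ∩ xW` does not depend on `x`. -/
theorem zed_eq (h : Hyp E P A) {x : L} (hx : x • P ≠ P) {y : L} (hy : y • P ≠ P) :
    zed E A y = zed E A x := by
  obtain ⟨a, ha, he⟩ := exists_conj h hx hy
  set n := (a * x)⁻¹ * y with hn
  have hn' : n • P = P := by rw [hn, mul_smul, he, inv_smul_smul]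
  ext u
  simp only [zed, Subgroup.mem_inf]
  refine and_congr_right fun hu => ?_
  rw [show y = a * x * n by rw [hn, mul_inv_cancel_left], mem_shift, mul_inv_rev, mul_smul,
    ← mem_shift, shift_of_normalizes h hn', mem_fixW, mem_shift, mul_inv_rev, mul_smul,
    hu _ (A.inv_mem ha)]
  rfl

theorem smul_mem_zed (h : Hyp E P A) {x : L} (hx : x • P ≠ P) {y : L} {z : E}
    (hz : z ∈ zed E A x) (hy : y • P ≠ P) : y • z ∈ zed E A x := by
  have hyi : y⁻¹ • P ≠ P := fun e => hy (inv_smul_eq_iff.1 e).symm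
  have h1 := (zed_eq h hx hyi).symm ▸ hz
  rw [← zed_eq h hx hy]
  refine Subgroup.mem_inf.2 ⟨?_, ?_⟩
  · have h2 : y⁻¹⁻¹ • z ∈ fixW A := h1.2
    rwa [inv_inv] at h2
  · rw [mem_shift, inv_smul_smul]; exact h1.1

/-- `W ∩ xW` is centralised by all Sylow subgroups. -/
theorem smul_eq_self (h : Hyp E P A) {x : L} (hx : x • P ≠ P) {z : E} (hz : z ∈ zed E A x)
    {Q : Sylow p L} {l : L} (hl : l ∈ (Q : Subgroup L)) : l • z = z := by
  obtain ⟨y, rfl⟩ := MulAction.exists_smul_eq L P Q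
  have hl' : y⁻¹ * l * y ∈ A := by
    rw [eq_sylow h]
    rw [Sylow.coe_subgroup_smul, mem_pointwise_smul_iff_inv_smul_mem] at hl
    simpa [MulAut.conj_inv_apply] using hl
  have hs : z ∈ shift A y := by
    by_cases hy : y • P = P
    · rw [shift_of_normalizes h hy]; exact hz.1
    · exact ((zed_eq h hx hy).symm ▸ hz).2
  have := hs _ hl'
  rw [show (y⁻¹ * l * y) • (MulDistribMulAction.toMonoidHom E y⁻¹) z = (y⁻¹ * l * y) • y⁻¹ • z from rfl,
    show (MulDistribMulAction.toMonoidHom E y⁻¹) z = y⁻¹ • z from rfl, mul_smul, mul_smul, smul_inv_smul,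
    smul_left_cancel_iff] at this
  exact this

theorem pow_mem_fixW (h : Hyp E P A) (u : E) : u ^ p ∈ fixW A := by
  obtain ⟨x, hx⟩ := h.moving
  obtain ⟨a, ha, hap⟩ : ∃ a ∈ A, orderOf a = p := by
    haveI : Nontrivial ↥A := (Subgroup.nontrivial_iff_ne_bot A).2 h.ne
    obtain ⟨n, hn, hcard⟩ := ((P.2.to_le h.le).nontrivial_iff_card).1 inferInstance
    obtain ⟨a, ha⟩ := exists_prime_orderOf_dvd_card' p (G := ↥A) (hcard ▸ dvd_pow_self p hn.ne')
    exact ⟨a, a.2, by rw [← ha, Subgroup.orderOf_coe]⟩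
  refine mem_fixW_of_br h hx ha (fun e => ?_) ?_
  · rw [e, orderOf_one] at hap; exact (Fact.out : p.Prime).ne_one hap.symm
  · rw [br_pow h, ← br_pow_left h ha, ← hap, pow_orderOf_eq_one, br_one_left]
    exact one_mem _

theorem pow_eq_one (h : Hyp E P A) {a : L} (ha : a ∈ A) : a ^ p = 1 := by
  refine h.faith _ fun u => br_eq_one_iff.1 ?_
  rw [br_pow_left h ha, ← br_pow h, br_eq_one_iff]
  exact pow_mem_fixW h u a ha

theorem pow_mem_zed (h : Hyp E P A) {x : L} (hx : x • P ≠ P) {w : E} (hw : w ∈ fixW A) :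
    w ^ p ∈ zed E A x := by
  obtain ⟨v, hv, hvz⟩ := exists_mem_shift_not_mem h hx
  obtain ⟨a, ha, haz⟩ := exists_br h hx hv hvz hw
  have e : w = br a v * ((br a v)⁻¹ * w) := (mul_inv_cancel_left _ _).symm
  have hc : Commute (br a v) ((br a v)⁻¹ * w) := h.comm _ _
  rw [e, hc.mul_pow, ← br_pow h, br_eq_one_iff.2 (pow_mem_fixW h v a ha), one_mul]
  exact pow_mem haz p

/-- Every coset of `W` contains an element of order dividing `p`. -/
theorem exists_pow_eq_one (h : Hyp E P A) (u : E) :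
    ∃ c : E, c ^ p = 1 ∧ c⁻¹ * u ∈ fixW A := by
  obtain ⟨x, hx⟩ := h.moving
  obtain ⟨v₀, hv₀, hv₀z⟩ := exists_mem_shift_not_mem h hx
  obtain ⟨w, hw, v, hv, rfl⟩ := exists_mul h hx u
  obtain ⟨a, ha, haz⟩ := exists_br h hx hv₀ hv₀z hv
  refine ⟨x • br a v₀, ?_, ?_⟩
  · rw [← smul_pow', ← br_pow h, br_eq_one_iff.2 (pow_mem_fixW h v₀ a ha), smul_one]
  · rw [← mul_assoc, h.comm (x • br a v₀)⁻¹ w, mul_assoc]
    refine mul_mem hw ?_
    have : (x • br a v₀)⁻¹ * v = x • ((br a v₀)⁻¹ * x⁻¹ • v) := by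
      rw [smul_mul', smul_inv', smul_inv_smul]
    rw [this]
    exact (smul_mem_zed h hx haz hx).1

end Hyp

end Cfsg.Agent.Lib.AbelInter85.Offender
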