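import Cfsg.Agent.Lib.AbelInter85.Cand

/-!
# Abelian Sylow 2-intersections: the action on the involutions

An automorphism of odd order of an abelian 2-group fixing all involutions is trivial, so for an
essential `E` the automiser acts faithfully on the involutions of `E`.
-/

set_option autoImplicit false
set_option linter.unusedSectionVars false

namespace Cfsg.Agent.Lib.AbelInter85

open Subgroup Cfsg.Agent.Lib.Fusion.Alperin

variable {G : Type*} [Group G] [Finite G] {S : Sylow 2 G} {E : Subgroup G}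

theorem smul_eq_of_odd (hC : Cand S E) {m : ↥(aut E)} {j : ℕ} (hm : m ^ (2 * j + 1) = 1)
    (hfix : ∀ v : ↥E, v * v = 1 → m • v = v) : ∀ v : ↥E, m • v = v := by
  suffices H : ∀ k : ℕ, ∀ v : ↥E, v ^ 2 ^ k = 1 → m • v = v by
    intro v
    obtain ⟨k, hk⟩ := S.2 ⟨(v : G), hC.le v.2⟩
    exact H k v (Subtype.ext (by simpa using congrArg Subtype.val hk))
  intro k
  induction k with
  | zero => intro v hv; simp only [pow_zero, pow_one] at hv; rw [hv, smul_one]
  | succ k ih =>
    intro v hv
    have hcom : ∀ a b : ↥E, a * b = b * a := fun a b => Subtype.ext (hC.comm a a.2 b b.2)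
    have h2 : m • (v * v) = v * v := ih _ (by rw [← sq, ← pow_mul, ← pow_succ']; exact hv)
    rw [smul_mul'] at h2
    set c := v⁻¹ * m • v with hc
    have hmv : m • v = v * c := (mul_inv_cancel_left _ _).symm
    have hcc : c * c = 1 := by
      rw [hc, hcom (v⁻¹) (m • v),
        show m • v * v⁻¹ * (m • v * v⁻¹) = m • v * (v⁻¹ * m • v) * v⁻¹ by simp only [mul_assoc],
        hcom (v⁻¹) (m • v), ← mul_assoc, h2]
      group
    have hpow : ∀ i : ℕ, m ^ i • v = v * c ^ i := by
      intro i
      induction i with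
      | zero => simp
      | succ i ihi =>
        rw [pow_succ', mul_smul, ihi, smul_mul', smul_pow', hfix c hcc, hmv, pow_succ', mul_assoc]
    have h3 := hpow (2 * j + 1)
    rw [hm, one_smul, pow_succ, pow_mul, sq, hcc, one_pow, one_mul] at h3
    rw [hmv, ← h3]

/-- The automiser of an essential subgroup is faithful on its involutions. -/
theorem eq_one_of_fix {hA : AI G} (hE : Ess hA S E) {l : ↥(aut E)}
    (hl : ∀ v : ↥E, v * v = 1 → l • v = v) : l = 1 := by
  haveI : Fact (Nat.Prime 2) := ⟨Nat.prime_two⟩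
  obtain ⟨hC, x, hx⟩ := hE
  set K : Subgroup ↥(aut E) :=
    { carrier := {m | ∀ v : ↥E, v * v = 1 → m • v = v}
      one_mem' := fun v _ => one_smul _ v
      mul_mem' := fun {a b} ha hb v hv => by rw [mul_smul, hb v hv, ha v hv]
      inv_mem' := fun {a} ha v hv => by rw [inv_smul_eq_iff, ha v hv] } with hK
  have hKp : IsPGroup 2 K := by
    intro m
    obtain ⟨a, b, hb, hab⟩ := Nat.exists_eq_two_pow_mul_odd (orderOf_pos m).ne'
    obtain ⟨j, rfl⟩ := hb
    refine ⟨a, Subtype.ext (aut_faith _ (smul_eq_of_odd hC (j := j) ?_ (m ^ 2 ^ a).2))⟩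
    rw [← SubmonoidClass.coe_pow, ← pow_mul, ← hab, pow_orderOf_eq_one]
    rfl
  have hKn : ∀ g : ↥(aut E), ∀ m ∈ K, g * m * g⁻¹ ∈ K := by
    intro g m hm v hv
    have : g⁻¹ • v * g⁻¹ • v = 1 := by rw [← smul_mul', hv, smul_one]
    rw [mul_smul, mul_smul, hm _ this, smul_inv_smul]
  have hKQ : ∀ Q : Sylow 2 ↥(aut E), K ≤ Q := by
    intro Q
    have hn : (Q : Subgroup ↥(aut E)) ≤ normalizer (K : Set ↥(aut E)) := fun g _ =>
      mem_normalizer_fintype fun m hm => hKn g m hm
    have := IsPGroup.to_sup_of_normal_left' hKp Q.2 hn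
    exact Q.3 this le_sup_right ▸ le_sup_left
  exact mem_bot.1 (hC.ti hA _ _ hx ▸ mem_inf.2 ⟨hKQ _ hl, hKQ _ hl⟩)

/-- An element of `N_S(E)` centralising the involutions of `E` lies in `E`. -/
theorem Ess.mem_of_fix {hA : AI G} (hE : Ess hA S E) {u : G} (hu : u ∈ uS S E)
    (hfix : ∀ v ∈ E, v * v = 1 → u * v = v * u) : u ∈ E := by
  have h1 : autOf E hu.2 = 1 := eq_one_of_fix hE fun v hv => Subtype.ext (by
    rw [autOf_smul, hfix v v.2 (congrArg Subtype.val hv), mul_inv_cancel_right])
  exact hE.1.cen u hu.1 fun x hx => (mem_centralizer_iff.1 ((autOf_eq_one_iff _).1 h1) x hx).symm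

/-- The involutions of `E`, with `1`. -/
def omega (hC : Cand S E) : Subgroup ↥E where
  carrier := {v | v * v = 1}
  one_mem' := one_mul 1
  mul_mem' := fun {a b} (ha : a * a = 1) (hb : b * b = 1) => by
    have : b * a = a * b := Subtype.ext (hC.comm b b.2 a a.2)
    show a * b * (a * b) = 1
    rw [mul_assoc, ← mul_assoc b, this, mul_assoc a b b, hb, mul_one, ha]
  inv_mem' := fun {a} (ha : a * a = 1) => by
    show a⁻¹ * a⁻¹ = 1
    rw [← mul_inv_rev, ha, inv_one]

theorem mem_omega {hC : Cand S E} {v : ↥E} : v ∈ omega hC ↔ v * v = 1 := Iff.rfl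

/-- The action of the automiser on the involutions. -/
@[reducible] def omegaAction (hC : Cand S E) : MulDistribMulAction ↥(aut E) ↥(omega hC) where
  smul l v := ⟨l • (v : ↥E), by
    have hv : (v : ↥E) * (v : ↥E) = 1 := v.2
    rw [mem_omega, ← smul_mul', hv, smul_one]⟩
  one_smul v := Subtype.ext (one_smul _ _)
  mul_smul a b v := Subtype.ext (mul_smul a b _)
  smul_one l := Subtype.ext (smul_one l)
  smul_mul l v w := Subtype.ext (smul_mul' l _ _)

end Cfsg.Agent.Lib.AbelInter85
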