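import Cfsg.Agent.Lib.AbelInter85.Cand
import Cfsg.Agent.Lib.AbelInter85.Offender

/-!
# Abelian Sylow 2-intersections: two mutually normalising essential subgroups

If `E` is essential and `F` is a second self-centralising abelian subgroup, each normalising the other
and `|E| ≤ |F|`, then `F` induces a quadratic offender on `E`, so `N_S(E) = E F` and the structure of
`Offender` applies.  `core2 E` is the subgroup of `E` fixed by all 2-elements of the automiser.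
-/

set_option autoImplicit false
set_option linter.unusedSectionVars false

namespace Cfsg.Agent.Lib.AbelInter85

open Subgroup Cfsg.Agent.Lib.Fusion.Alperin Offender

variable {G : Type*} [Group G]

/-- The elements of `E` fixed by the 2-elements of the automiser. -/
def core2 (E : Subgroup G) : Subgroup G :=
  ({ carrier := {u : ↥E | ∀ l : ↥(aut E), (∃ k : ℕ, l ^ 2 ^ k = 1) → l • u = u}
     one_mem' := fun _ _ => smul_one _
     mul_mem' := fun {u v} hu hv l hl => by rw [smul_mul', hu l hl, hv l hl]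
     inv_mem' := fun {u} hu l hl => by rw [smul_inv', hu l hl] } : Subgroup ↥E).map E.subtype

theorem mem_core2 {E : Subgroup G} {z : G} : z ∈ core2 E ↔
    ∃ hz : z ∈ E, ∀ l : ↥(aut E), (∃ k : ℕ, l ^ 2 ^ k = 1) → l • (⟨z, hz⟩ : ↥E) = ⟨z, hz⟩ := by
  constructor
  · rintro ⟨⟨z, hz⟩, h, rfl⟩
    exact ⟨hz, h⟩
  · rintro ⟨hz, h⟩
    exact ⟨⟨z, hz⟩, h, rfl⟩

/-- The commutator. -/
def cm (a b : G) : G := a * b * a⁻¹ * b⁻¹

theorem cm_eq_one_iff {a b : G} : cm a b = 1 ↔ a * b = b * a := by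
  rw [cm, mul_inv_eq_one, mul_inv_eq_iff_eq_mul]

theorem cm_inv (a b : G) : (cm a b)⁻¹ = cm b a := by simp only [cm]; group

variable [Finite G] {S : Sylow 2 G} {E F : Subgroup G}

/-- Essentiality in elementary terms. -/
theorem ess_iff (hA : AI G) : Ess hA S E ↔ Cand S E ∧ ∃ n ∈ normalizer (E : Set G),
    ∀ h ∈ normalizer (E : Set G) ⊓ normalizer ((S : Subgroup G) : Set G),
      ¬ ∀ x ∈ E, n * x * n⁻¹ = h * x * h⁻¹ := by
  constructor
  · rintro ⟨hC, l, hl⟩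
    refine ⟨hC, ?_⟩
    obtain ⟨n, hn, rfl⟩ := exists_autOf l
    refine ⟨n, hn, fun h hh he => hl ?_⟩
    have e : autOf E hn = autOf E hh.1 := by
      rw [autOf_eq_iff, mem_centralizer_iff]
      intro x hx
      have h1 : h * x * h⁻¹ ∈ E := (mem_normalizer_iff.1 hh.1 x).1 hx
      have h2 := he x hx
      calc x * (n⁻¹ * h) = n⁻¹ * (n * x * n⁻¹) * h := by group
        _ = n⁻¹ * (h * x * h⁻¹) * h := by rw [h2]
        _ = n⁻¹ * h * x := by group
    rw [e, Sylow.smul_eq_iff_mem_normalizer]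
    refine mem_normalizer_fintype fun m hm => ?_
    obtain ⟨u, hu, rfl⟩ := (hC.mem_sylL hA).1 hm
    have hu' : h * u * h⁻¹ ∈ uS S E :=
      mem_inf.2 ⟨(mem_normalizer_iff.1 hh.2 u).1 hu.1, mul_mem (mul_mem hh.1 hu.2) (inv_mem hh.1)⟩
    rw [← autOf_inv hh.1, ← autOf_mul hh.1 hu.2, ← autOf_mul (mul_mem hh.1 hu.2) (inv_mem hh.1)]
    exact hC.autOf_mem_sylL hA hu'
  · rintro ⟨hC, n, hn, h⟩
    refine ⟨hC, autOf E hn, fun e => ?_⟩
    obtain ⟨m, hm, he⟩ := hC.exists_split hA hn e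
    exact h m hm he

theorem Cand.conj (hC : Cand S E) {g : G} (hg : g ∈ normalizer ((S : Subgroup G) : Set G)) :
    Cand S (conjS g E) := by
  refine ⟨lt_of_le_of_ne ((conjS_mono hC.le).trans (conjS_eq_of_mem_normalizer hg).le) ?_, ?_, ?_⟩
  · intro e
    have h1 := congrArg (fun H : Subgroup G => Nat.card H) e
    simp only [card_conjS] at h1
    exact hC.lt.ne (eq_of_le_of_card_ge hC.le h1.ge)
  · intro x hx y hy
    rw [mem_conjS] at hx hy
    have := hC.comm _ hx _ hy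
    calc x * y = g * ((g⁻¹ * x * g) * (g⁻¹ * y * g)) * g⁻¹ := by group
      _ = g * ((g⁻¹ * y * g) * (g⁻¹ * x * g)) * g⁻¹ := by rw [this]
      _ = y * x := by group
  · intro s hs hcom
    rw [mem_conjS]
    refine hC.cen _ ((mem_normalizer_iff''.1 hg s).1 hs) fun x hx => ?_
    have := hcom (g * x * g⁻¹) (conj_mem_conjS hx)
    calc g⁻¹ * s * g * x = g⁻¹ * (s * (g * x * g⁻¹)) * g := by group
      _ = g⁻¹ * ((g * x * g⁻¹) * s) * g := by rw [this]
      _ = x * (g⁻¹ * s * g) := by group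

theorem Ess.conj {hA : AI G} (hE : Ess hA S E) {g : G}
    (hg : g ∈ normalizer ((S : Subgroup G) : Set G)) : Ess hA S (conjS g E) := by
  obtain ⟨hC, n, hn, h⟩ := (ess_iff hA).1 hE
  refine (ess_iff hA).2 ⟨hC.conj hg, g * n * g⁻¹, mem_normalizer_conjS hn, fun m hm hall => ?_⟩
  refine h (g⁻¹ * m * g) (mem_inf.2 ⟨?_, mul_mem (mul_mem (inv_mem hg) hm.2) hg⟩) fun x hx => ?_
  · have := mem_normalizer_conjS (g := g⁻¹) hm.1
    rwa [conjS_inv_conjS, inv_inv] at this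
  · have := hall _ (conj_mem_conjS hx)
    calc n * x * n⁻¹ = g⁻¹ * (g * n * g⁻¹ * (g * x * g⁻¹) * (g * n * g⁻¹)⁻¹) * g := by group
      _ = g⁻¹ * (m * (g * x * g⁻¹) * m⁻¹) * g := by rw [this]
      _ = _ := by group

/-- `E` is essential, `F` is self-centralising, they normalise each other and `|E| ≤ |F|`. -/
structure Paired (hA : AI G) (S : Sylow 2 G) (E F : Subgroup G) : Prop where
  ess : Ess hA S E
  cand : Cand S F
  card_le : Nat.card E ≤ Nat.card F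
  nF : F ≤ normalizer (E : Set G)
  nE : E ≤ normalizer (F : Set G)
  ne : E ≠ F

/-- The image of `F` in the automiser of `E`. -/
def offA (E F : Subgroup G) : Subgroup ↥(aut E) :=
  (F.subgroupOf (normalizer (E : Set G))).map (normalizerMonoidHom E).rangeRestrict

namespace Paired

variable {hA : AI G}

theorem candE (h : Paired hA S E F) : Cand S E := h.ess.1

theorem mem_offA (h : Paired hA S E F) {a : ↥(aut E)} :
    a ∈ offA E F ↔ ∃ (f : G) (hf : f ∈ F), autOf E (h.nF hf) = a := by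
  constructor
  · rintro ⟨⟨f, hf'⟩, hf, rfl⟩
    exact ⟨f, hf, rfl⟩
  · rintro ⟨f, hf, rfl⟩
    exact ⟨⟨f, h.nF hf⟩, hf, rfl⟩

theorem autOf_mem_offA (h : Paired hA S E F) {f : G} (hf : f ∈ F) :
    autOf E (h.nF hf) ∈ offA E F := h.mem_offA.2 ⟨f, hf, rfl⟩

theorem mem_fixW_iff (h : Paired hA S E F) {u : ↥E} :
    u ∈ fixW (offA E F) ↔ (u : G) ∈ F := by
  rw [mem_fixW]
  constructor
  · intro hu
    refine h.cand.cen _ (h.candE.le u.2) fun f hf => ?_
    have := congrArg Subtype.val (hu _ (h.autOf_mem_offA hf))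
    rw [autOf_smul] at this
    exact (mul_inv_eq_iff_eq_mul.1 this).symm
  · intro hu a ha
    obtain ⟨f, hf, rfl⟩ := h.mem_offA.1 ha
    refine Subtype.ext ?_
    rw [autOf_smul, mul_inv_eq_iff_eq_mul]
    exact h.cand.comm f hf u hu

theorem cm_mem (h : Paired hA S E F) {e f : G} (he : e ∈ E) (hf : f ∈ F) :
    cm e f ∈ E ⊓ F := by
  refine mem_inf.2 ⟨?_, ?_⟩
  · rw [cm, show e * f * e⁻¹ * f⁻¹ = e * (f * e⁻¹ * f⁻¹) by group]
    exact mul_mem he ((mem_normalizer_iff.1 (h.nF hf) _).1 (inv_mem he))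
  · exact mul_mem ((mem_normalizer_iff.1 (h.nE he) _).1 hf) (inv_mem hf)

theorem card_offA (h : Paired hA S E F) :
    Nat.card ↥(offA E F) * Nat.card ↥(E ⊓ F : Subgroup G) = Nat.card F := by
  set g : ↥F →* ↥(offA E F) :=
    { toFun := fun f => ⟨autOf E (h.nF f.2), h.autOf_mem_offA f.2⟩
      map_one' := Subtype.ext ((autOf_eq_one_iff (h.nF F.one_mem)).2 (one_mem _))
      map_mul' := fun a b => Subtype.ext (autOf_mul (h.nF a.2) (h.nF b.2)) } with hg
  have hs : Function.Surjective g := by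
    rintro ⟨a, ha⟩
    obtain ⟨f, hf, rfl⟩ := h.mem_offA.1 ha
    exact ⟨⟨f, hf⟩, rfl⟩
  have hk : g.ker = (E ⊓ F).subgroupOf F := by
    ext f
    rw [MonoidHom.mem_ker, mem_subgroupOf, mem_inf, Subtype.ext_iff]
    change autOf E (h.nF f.2) = 1 ↔ _
    rw [autOf_eq_one_iff]
    constructor
    · intro hc
      exact ⟨h.candE.cen _ (h.cand.le f.2) fun x hx => (mem_centralizer_iff.1 hc x hx).symm, f.2⟩
    · rintro ⟨hfE, -⟩
      exact mem_centralizer_iff.2 fun x hx => h.candE.comm x hx _ hfE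
  rw [← Nat.card_congr (QuotientGroup.quotientKerEquivOfSurjective g hs).toEquiv,
    ← Nat.card_congr (subgroupOfEquivOfLe (inf_le_right : E ⊓ F ≤ F)).toEquiv, ← hk,
    ← Subgroup.card_eq_card_quotient_mul_card_subgroup]

theorem card_fixW (h : Paired hA S E F) :
    Nat.card ↥(fixW (E := ↥E) (offA E F)) = Nat.card ↥(E ⊓ F : Subgroup G) := by
  rw [show fixW (E := ↥E) (offA E F) = (E ⊓ F).subgroupOf E from ?_,
    Nat.card_congr (subgroupOfEquivOfLe (inf_le_left : E ⊓ F ≤ E)).toEquiv]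
  ext u
  rw [h.mem_fixW_iff, mem_subgroupOf, mem_inf]
  exact ⟨fun hu => ⟨u.2, hu⟩, fun hu => hu.2⟩

theorem not_le (h : Paired hA S E F) : ¬ F ≤ E := fun hle =>
  h.ne (eq_of_le_of_card_ge hle h.card_le).symm

theorem offender (h : Paired hA S E F) :
    Offender.Hyp ↥E (h.candE.sylL hA) (offA E F) := by
  refine ⟨fun u v => Subtype.ext (h.candE.comm u u.2 v v.2), aut_faith, h.candE.ti hA, ?_, ?_, ?_,
    ?_, h.ess.2⟩
  · intro a ha
    obtain ⟨f, hf, rfl⟩ := h.mem_offA.1 ha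
    exact h.candE.autOf_mem_sylL hA (mem_inf.2 ⟨h.cand.le hf, h.nF hf⟩)
  · intro e
    refine h.not_le fun f hf => h.candE.cen f (h.cand.le hf) fun x hx => ?_
    have h1 : autOf E (h.nF hf) = 1 := mem_bot.1 (e ▸ h.autOf_mem_offA hf)
    exact (mem_centralizer_iff.1 ((autOf_eq_one_iff _).1 h1) x hx).symm
  · intro a ha u
    rw [h.mem_fixW_iff]
    obtain ⟨f, hf, rfl⟩ := h.mem_offA.1 ha
    rw [br, Subgroup.coe_mul, InvMemClass.coe_inv, autOf_smul,
      show (u : G)⁻¹ * (f * u * f⁻¹) = cm (u : G)⁻¹ f by simp only [cm]; group]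
    exact (h.cm_mem (inv_mem u.2) hf).2
  · refine Nat.le_of_mul_le_mul_right ?_
      (Nat.card_pos : 0 < Nat.card ↥(fixW (E := ↥E) (offA E F)))
    rw [Subgroup.index_mul_card, h.card_fixW, h.card_offA]
    exact h.card_le

theorem card_eq (h : Paired hA S E F) : Nat.card E = Nat.card F := by
  haveI : Fact (Nat.Prime 2) := ⟨Nat.prime_two⟩
  rw [← Subgroup.index_mul_card (fixW (E := ↥E) (offA E F)), h.offender.index_fixW, h.card_fixW,
    h.card_offA]

/-- `N_S(E) = E F`. -/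
theorem exists_mul (h : Paired hA S E F) {u : G} (hu : u ∈ uS S E) :
    ∃ e ∈ E, ∃ f ∈ F, u = e * f := by
  haveI : Fact (Nat.Prime 2) := ⟨Nat.prime_two⟩
  have h1 : autOf E hu.2 ∈ offA E F := by
    rw [h.offender.eq_sylow]; exact h.candE.autOf_mem_sylL hA hu
  obtain ⟨f, hf, hfu⟩ := h.mem_offA.1 h1
  have h2 := (autOf_eq_iff hu.2 (h.nF hf)).1 hfu.symm
  have h3 : u⁻¹ * f ∈ E := h.candE.cen _ (mul_mem (inv_mem hu.1) (h.cand.le hf))
    fun x hx => (mem_centralizer_iff.1 h2 x hx).symm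
  refine ⟨u * (u⁻¹ * f)⁻¹ * u⁻¹, (mem_normalizer_iff.1 hu.2 _).1 (inv_mem h3), f, hf, ?_⟩
  group

theorem mul_mem_uS (h : Paired hA S E F) {e f : G} (he : e ∈ E) (hf : f ∈ F) :
    e * f ∈ uS S E :=
  mul_mem (h.candE.le_uS he) (mem_inf.2 ⟨h.cand.le hf, h.nF hf⟩)

/-- `C_E(f) = E ⊓ F` for `f ∈ F ∖ E`. -/
theorem mem_of_commute (h : Paired hA S E F) {e f : G} (he : e ∈ E) (hf : f ∈ F) (hfE : f ∉ E)
    (hc : e * f = f * e) : e ∈ F := by
  haveI : Fact (Nat.Prime 2) := ⟨Nat.prime_two⟩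
  obtain ⟨x, hx⟩ := h.offender.moving
  refine (h.mem_fixW_iff (u := ⟨e, he⟩)).1
    (h.offender.mem_fixW_of_br hx (h.autOf_mem_offA hf) (fun h1 => hfE ?_) ?_)
  · exact h.candE.cen f (h.cand.le hf) fun y hy =>
      (mem_centralizer_iff.1 ((autOf_eq_one_iff _).1 h1) y hy).symm
  · rw [br_eq_one_iff.2 (Subtype.ext ?_)]
    · exact one_mem _
    · rw [autOf_smul, mul_inv_eq_iff_eq_mul]
      exact hc.symm

theorem zed_eq_core2 (h : Paired hA S E F) {x : ↥(aut E)}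
    (hx : x • h.candE.sylL hA ≠ h.candE.sylL hA) {z : ↥E} :
    z ∈ Hyp.zed ↥E (offA E F) x ↔ (z : G) ∈ core2 E := by
  haveI : Fact (Nat.Prime 2) := ⟨Nat.prime_two⟩
  constructor
  · intro hz
    refine mem_core2.2 ⟨z.2, fun l hl => ?_⟩
    obtain ⟨k, hk⟩ := hl
    have hp : IsPGroup 2 (zpowers l) := by
      rintro ⟨_, i, rfl⟩
      refine ⟨k, Subtype.ext ?_⟩
      simp only [SubmonoidClass.coe_pow, OneMemClass.coe_one]
      rw [← zpow_natCast, ← zpow_mul, mul_comm, zpow_mul, zpow_natCast, hk, one_zpow]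
    obtain ⟨Q, hQ⟩ := hp.exists_le_sylow
    exact h.offender.smul_eq_self hx hz (hQ (mem_zpowers l))
  · intro hz
    obtain ⟨_, hfix⟩ := mem_core2.1 hz
    have h2 : ∀ a ∈ offA E F, ∃ k : ℕ, a ^ 2 ^ k = 1 := fun a ha =>
      ⟨1, by rw [pow_one]; exact h.offender.pow_eq_one ha⟩
    refine mem_inf.2 ⟨fun a ha => hfix a (h2 a ha), ?_⟩
    rw [mem_shift]
    intro a ha
    obtain ⟨k, hk⟩ := h2 a ha
    have h3 := hfix (x * a * x⁻¹) ⟨k, by rw [conj_pow, hk, mul_one, mul_inv_cancel]⟩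
    rwa [mul_smul, mul_smul, ← eq_inv_smul_iff] at h3

/-- `[e, f]` avoids `core2 E`. -/
theorem mem_of_cm_core (h : Paired hA S E F) {e f : G} (he : e ∈ E) (hf : f ∈ F) (hfE : f ∉ E)
    (hc : cm e f ∈ core2 E) : e ∈ F := by
  haveI : Fact (Nat.Prime 2) := ⟨Nat.prime_two⟩
  obtain ⟨x, hx⟩ := h.offender.moving
  have hb : br (autOf E (h.nF hf)) (⟨e, he⟩ : ↥E)⁻¹ ∈ Hyp.zed ↥E (offA E F) x := by
    rw [h.zed_eq_core2 hx]
    convert hc using 1
    rw [br, Subgroup.coe_mul, InvMemClass.coe_inv, InvMemClass.coe_inv, inv_inv, autOf_smul,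
      InvMemClass.coe_inv, cm]
    group
  have h1 := h.offender.mem_fixW_of_br hx (h.autOf_mem_offA hf) (fun h1 => hfE
    (h.candE.cen f (h.cand.le hf) fun y hy =>
      (mem_centralizer_iff.1 ((autOf_eq_one_iff _).1 h1) y hy).symm)) hb
  have h2 := inv_mem h1
  rw [inv_inv] at h2
  exact h.mem_fixW_iff.1 h2

theorem core2_le (h : Paired hA S E F) : core2 E ≤ E ⊓ F := by
  intro z hz
  haveI : Fact (Nat.Prime 2) := ⟨Nat.prime_two⟩
  obtain ⟨hzE, -⟩ := mem_core2.1 hz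
  obtain ⟨x, hx⟩ := h.offender.moving
  exact mem_inf.2 ⟨hzE, h.mem_fixW_iff.1 ((h.zed_eq_core2 hx (z := ⟨z, hzE⟩)).2 hz).1⟩

theorem sq_mem (h : Paired hA S E F) {e : G} (he : e ∈ E) : e * e ∈ E ⊓ F := by
  haveI : Fact (Nat.Prime 2) := ⟨Nat.prime_two⟩
  have h1 := h.mem_fixW_iff.1 (h.offender.pow_mem_fixW (⟨e, he⟩ : ↥E))
  rw [sq, Subgroup.coe_mul] at h1
  exact mem_inf.2 ⟨mul_mem he he, h1⟩

theorem sq_mem_core (h : Paired hA S E F) {z : G} (hz : z ∈ E ⊓ F) : z * z ∈ core2 E := by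
  haveI : Fact (Nat.Prime 2) := ⟨Nat.prime_two⟩
  obtain ⟨x, hx⟩ := h.offender.moving
  have h1 := h.offender.pow_mem_zed hx (w := (⟨z, hz.1⟩ : ↥E)) (h.mem_fixW_iff.2 hz.2)
  rw [h.zed_eq_core2 hx, sq, Subgroup.coe_mul] at h1
  exact h1

theorem exists_involution (h : Paired hA S E F) {e : G} (he : e ∈ E) :
    ∃ c ∈ E, c * c = 1 ∧ c⁻¹ * e ∈ E ⊓ F := by
  haveI : Fact (Nat.Prime 2) := ⟨Nat.prime_two⟩
  obtain ⟨c, hc, hce⟩ := h.offender.exists_pow_eq_one (⟨e, he⟩ : ↥E)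
  refine ⟨c, c.2, ?_, mem_inf.2 ⟨mul_mem (inv_mem c.2) he, ?_⟩⟩
  · rw [sq] at hc; exact congrArg Subtype.val hc
  · exact h.mem_fixW_iff.1 hce

theorem commute_of_mem_inf (h : Paired hA S E F) {z u : G} (hz : z ∈ E ⊓ F) (hu : u ∈ uS S E) :
    z * u = u * z := by
  obtain ⟨e, he, f, hf, rfl⟩ := h.exists_mul hu
  rw [← mul_assoc, h.candE.comm z hz.1 e he, mul_assoc, h.cand.comm z hz.2 f hf, mul_assoc]

theorem cm_sq (h : Paired hA S E F) {e f : G} (he : e ∈ E) (hf : f ∈ F) : cm e f * cm e f = 1 := by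
  have hz := h.sq_mem he
  have hcm := h.cm_mem he hf
  have h1 : e * cm e f = cm e f * e := h.candE.comm e he _ hcm.1
  have h2 : (e * e) * f = f * (e * e) := h.cand.comm _ hz.2 _ hf
  calc cm e f * cm e f = cm e f * (e * f * e⁻¹ * f⁻¹) := rfl
    _ = (cm e f * e) * f * e⁻¹ * f⁻¹ := by group
    _ = (e * cm e f) * f * e⁻¹ * f⁻¹ := by rw [h1]
    _ = (e * e * f) * (e * e)⁻¹ * f⁻¹ := by simp only [cm]; group
    _ = 1 := by rw [h2]; group

theorem cm_mul_left (h : Paired hA S E F) {e e' f : G} (he : e ∈ E) (he' : e' ∈ E) (hf : f ∈ F) :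
    cm (e * e') f = cm e f * cm e' f := by
  have h1 : e * cm e' f = cm e' f * e := h.candE.comm e he _ (h.cm_mem he' hf).1
  have h2 : e * f * e⁻¹ * f⁻¹ * cm e' f = cm e' f * (e * f * e⁻¹ * f⁻¹) :=
    (h.commute_of_mem_inf (h.cm_mem he' hf) (h.candE.le_uS (h.cm_mem he hf).1)).symm
  calc cm (e * e') f = (e * cm e' f) * (f * e⁻¹ * f⁻¹) := by simp only [cm]; group
    _ = cm e' f * cm e f := by rw [h1]; simp only [cm]; group
    _ = cm e f * cm e' f := h2.symm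

theorem cm_mul_right (h : Paired hA S E F) {e f f' : G} (he : e ∈ E) (hf : f ∈ F) (hf' : f' ∈ F) :
    cm e (f * f') = cm e f * cm e f' := by
  have h1 : f * cm e f' = cm e f' * f := h.cand.comm f hf _ (h.cm_mem he hf').2
  calc cm e (f * f') = e * f * e⁻¹ * (cm e f') * f⁻¹ := by simp only [cm]; group
    _ = e * f * e⁻¹ * f⁻¹ * (f * cm e f') * f⁻¹ := by group
    _ = _ := by rw [h1]; simp only [cm]; group

end Paired

end Cfsg.Agent.Lib.AbelInter85
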