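import Mathlib.GroupTheory.PGroup
import Mathlib.GroupTheory.QuotientGroup.Basic
import Mathlib.GroupTheory.OrderOfElement
import Mathlib.Tactic.Linarith
import Mathlib.Tactic.Ring

/-!
# 2-groups generated by soft involutions

`Γ` is a conjugacy-closed generating set of involutions of a 2-group `S`; centralisers of members are
abelian, a member commutes with at most one other member, and if `f e f` is the partner of `e` no
element centralising `e` and `f` has square `(e f) ^ 2`.  Then `S` is generated by two members and an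
automorphism of odd order preserving `Γ` fixes it pointwise.

The induction passes to `S ⧸ ⟨d⟩`, where `d` is the common value of `(e f) ^ 2`.
-/

set_option autoImplicit false

namespace Cfsg.Agent.Lib.AbelInter85.Soft

open Subgroup

universe u

variable {S : Type u} [Group S]

/-- The hypotheses. -/
structure Hyp (Γ : Set S) : Prop where
  two : IsPGroup 2 S
  ne : Γ.Nonempty
  gen : closure Γ = ⊤
  invol : ∀ e ∈ Γ, e * e = 1
  conj : ∀ s : S, ∀ e ∈ Γ, s * e * s⁻¹ ∈ Γ
  abel : ∀ e ∈ Γ, ∀ x y : S, Commute x e → Commute y e → Commute x y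
  pair : ∀ e ∈ Γ, ∀ e₁ ∈ Γ, ∀ e₂ ∈ Γ, Commute e e₁ → Commute e e₂ → e₁ ≠ e → e₂ ≠ e → e₁ = e₂
  noSqrt : ∀ e ∈ Γ, ∀ f ∈ Γ, Commute e (f * e * f) → ¬ Commute e f →
    ∀ y : S, Commute y e → Commute y f → y * y ≠ e * (f * e * f)

namespace Hyp

variable {Γ : Set S}

theorem inv_eq (h : Hyp Γ) {e : S} (he : e ∈ Γ) : e⁻¹ = e :=
  inv_eq_of_mul_eq_one_right (h.invol e he)

theorem conj' (h : Hyp Γ) {e b : S} (he : e ∈ Γ) (hb : b ∈ Γ) : b * e * b ∈ Γ := by
  have := h.conj b e he
  rwa [h.inv_eq hb] at this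

/-- The data of a non-commuting pair. -/
theorem exists_d (h : Hyp Γ) {e b : S} (he : e ∈ Γ) (hb : b ∈ Γ) (hne : ¬ Commute e b) :
    ∃ t : S, t ≠ 1 ∧ t * t = 1 ∧ Commute t e ∧ Commute t b ∧ e * t ∈ Γ ∧ b * t ∈ Γ ∧
      t ∈ closure ({e, b} : Set S) ∧ ∃ f ∈ Γ, f * e * f = e * t := by
  obtain ⟨k, hk⟩ := h.two (e * b)
  obtain ⟨k₀, -, hord⟩ := (Nat.dvd_prime_pow Nat.prime_two).1 (orderOf_dvd_of_pow_eq_one hk)
  obtain ⟨r, hr⟩ : ∃ r, r = e * b := ⟨_, rfl⟩
  rw [← hr] at hord
  have hre : ∀ n : ℕ, e * r ^ n * e = (r ^ n)⁻¹ := by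
    intro n
    have h1 : e * r * e⁻¹ = r⁻¹ := by
      rw [hr, h.inv_eq he, mul_inv_rev, h.inv_eq he, h.inv_eq hb, ← mul_assoc, h.invol e he, one_mul]
    have h2 := congrArg (fun z => z ^ n) h1
    simp only [conj_pow] at h2
    rwa [h.inv_eq he, inv_pow] at h2
  have hrb : ∀ n : ℕ, b * r ^ n * b = (r ^ n)⁻¹ := by
    intro n
    have h1 : b * r * b⁻¹ = r⁻¹ := by
      rw [hr, h.inv_eq hb, mul_inv_rev, h.inv_eq he, h.inv_eq hb, mul_assoc, mul_assoc, h.invol b hb,
        mul_one]
    have h2 := congrArg (fun z => z ^ n) h1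
    simp only [conj_pow] at h2
    rwa [h.inv_eq hb, inv_pow] at h2
  have hshift : ∀ c ∈ Γ, (∀ n : ℕ, c * r ^ n * c = (r ^ n)⁻¹) → ∀ n : ℕ, c * r ^ (2 * n) ∈ Γ := by
    intro c hc hcr n
    have h0 := h.conj (r ^ n)⁻¹ c hc
    have e1 : c * r ^ n = (r ^ n)⁻¹ * c := by
      rw [← hcr n, mul_assoc, h.invol c hc, mul_one]
    rw [inv_inv] at h0
    rwa [two_mul, pow_add, ← mul_assoc, e1]
  obtain ⟨j, hj⟩ : ∃ j, k₀ = j + 2 := by
    refine ⟨k₀ - 2, ?_⟩
    by_contra hlt
    have h2 : r ^ 2 = 1 := by
      rw [← orderOf_dvd_iff_pow_eq_one, hord]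
      calc 2 ^ k₀ ∣ 2 ^ 1 := pow_dvd_pow 2 (by omega)
        _ = 2 := pow_one 2
    refine hne ?_
    have h3 : r⁻¹ = r := inv_eq_of_mul_eq_one_right (by rwa [← sq])
    rw [hr, mul_inv_rev, h.inv_eq he, h.inv_eq hb] at h3
    exact h3.symm
  subst hj
  obtain ⟨t, ht⟩ : ∃ t, t = r ^ 2 ^ (j + 1) := ⟨_, rfl⟩
  have ht2 : t * t = 1 := by
    rw [ht, ← pow_add, ← two_mul, ← pow_succ', ← orderOf_dvd_iff_pow_eq_one, hord]
  have ht1 : t ≠ 1 := by
    rw [ht, Ne, ← orderOf_dvd_iff_pow_eq_one, hord, Nat.pow_dvd_pow_iff_le_right (by norm_num)]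
    omega
  have hti : t⁻¹ = t := inv_eq_of_mul_eq_one_right ht2
  have hc : ∀ c ∈ Γ, (∀ n : ℕ, c * r ^ n * c = (r ^ n)⁻¹) → Commute t c := by
    intro c hc hcr
    have h1 := hcr (2 ^ (j + 1))
    rw [← ht, hti] at h1
    calc t * c = c * t * c * c := by rw [h1]
      _ = c * t := by rw [mul_assoc, h.invol c hc, mul_one]
  refine ⟨t, ht1, ht2, hc e he hre, hc b hb hrb, ?_, ?_, ?_, ?_⟩
  · rw [ht, pow_succ']; exact hshift e he hre _
  · rw [ht, pow_succ']; exact hshift b hb hrb _
  · have he' : e ∈ closure ({e, b} : Set S) := subset_closure (Set.mem_insert e {b})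
    have hb' : b ∈ closure ({e, b} : Set S) :=
      subset_closure (Set.mem_insert_of_mem e (Set.mem_singleton b))
    have hr' : r ∈ closure ({e, b} : Set S) := hr.symm ▸ Subgroup.mul_mem _ he' hb'
    exact ht.symm ▸ Subgroup.pow_mem _ hr' _
  · rcases j with - | j
    · refine ⟨b, hb, ?_⟩
      rw [ht, zero_add, pow_one, sq, hr]
      calc b * e * b = (e * e) * (b * e * b) := by rw [h.invol e he, one_mul]
        _ = _ := by group
    · refine ⟨e * r ^ (2 * 2 ^ j), hshift e he hre _, ?_⟩
      set s := r ^ (2 * 2 ^ j) with hs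
      have hss : s * s = t := by
        rw [hs, ht, ← pow_add, pow_succ', pow_succ']; ring_nf
      calc e * s * e * (e * s) = e * s * (e * e) * s := by group
        _ = e * (s * s) := by rw [h.invol e he, mul_one, mul_assoc]
        _ = e * t := by rw [hss]

variable [Finite S]

/-- In a non-abelian `S` there is one central involution `d` pairing the members. -/
theorem exists_global (h : Hyp Γ) (hna : ∃ e ∈ Γ, ∃ b ∈ Γ, ¬ Commute e b) :
    ∃ d : S, d ≠ 1 ∧ d * d = 1 ∧ (∀ x : S, Commute d x) ∧
      (∀ e ∈ Γ, e * d ∈ Γ ∧ ∃ f ∈ Γ, f * e * f = e * d) ∧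
      (∀ e ∈ Γ, ∀ c ∈ Γ, Commute e c → c = e ∨ c = e * d) ∧
      (∀ a ∈ Γ, ∀ c ∈ Γ, ¬ Commute a c → d ∈ closure ({a, c} : Set S)) := by
  have hex : ∀ x ∈ Γ, ∃ c ∈ Γ, ¬ Commute x c := by
    intro x hx
    by_contra! hall
    obtain ⟨e, he, b, hb, hne⟩ := hna
    exact hne (h.abel x hx e b (hall e he).symm (hall b hb).symm)
  have same : ∀ x ∈ Γ, ∀ t t' : S, t ≠ 1 → t' ≠ 1 → x * t ∈ Γ → x * t' ∈ Γ → Commute t x →
      Commute t' x → t = t' := fun x hx t t' ht ht' hm hm' hc hc' =>
    mul_left_cancel (h.pair x hx _ hm _ hm' ((Commute.refl x).mul_right hc.symm)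
      ((Commute.refl x).mul_right hc'.symm) (by simpa using ht) (by simpa using ht'))
  obtain ⟨e₀, he₀, b₀, hb₀, hne₀⟩ := hna
  obtain ⟨d, hd1, hd2, hde, hdb, hme, hmb, -, f₀, hf₀, hfe₀⟩ := h.exists_d he₀ hb₀ hne₀
  have all : ∀ x ∈ Γ, x * d ∈ Γ ∧ Commute d x := by
    intro x hx
    by_cases hxe : Commute x e₀
    · by_cases hx1 : x = e₀
      · exact ⟨hx1 ▸ hme, hx1 ▸ hde⟩
      have : x = e₀ * d := h.pair e₀ he₀ _ hx _ hme hxe.symm
        ((Commute.refl e₀).mul_right hde.symm) hx1 (by simpa using hd1)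
      refine ⟨?_, this ▸ hde.mul_right (Commute.refl d)⟩
      rw [this, mul_assoc, hd2, mul_one]; exact he₀
    · obtain ⟨t, ht1, -, htx, hte, hmx, hme', -, -⟩ := h.exists_d hx he₀ hxe
      have : t = d := same e₀ he₀ t d ht1 hd1 hme' hme hte hde
      exact ⟨this ▸ hmx, this ▸ htx⟩
  have hcen : ∀ x : S, Commute d x := by
    intro x
    have : closure Γ ≤ centralizer ({d} : Set S) := by
      rw [closure_le]
      intro y hy
      rw [SetLike.mem_coe, mem_centralizer_singleton_iff]
      exact (all y hy).2.symm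
    rw [h.gen] at this
    exact (mem_centralizer_singleton_iff.1 (this (mem_top x))).symm
  have hd : ∀ x ∈ Γ, ∀ c ∈ Γ, ∀ t : S, t ≠ 1 → Commute t x → x * t ∈ Γ → t = d :=
    fun x hx c _ t ht htx hm => same x hx t d ht hd1 hm (all x hx).1 htx (hcen x)
  refine ⟨d, hd1, hd2, hcen, fun x hx => ⟨(all x hx).1, ?_⟩, fun x hx c hc hxc => ?_,
    fun a ha c hc hac => ?_⟩
  · obtain ⟨c, hc, hxc⟩ := hex x hx
    obtain ⟨t, ht1, -, htx, -, hmx, -, -, f, hf, hfe⟩ := h.exists_d hx hc hxc
    exact ⟨f, hf, by rw [hfe, hd x hx c hc t ht1 htx hmx]⟩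
  · by_cases hcx : c = x
    · exact Or.inl hcx
    · exact Or.inr (h.pair x hx _ hc _ (all x hx).1 hxc
        ((Commute.refl x).mul_right (hcen x).symm) hcx (by simpa using hd1))
  · obtain ⟨t, ht1, -, hta, -, hma, -, htm, -⟩ := h.exists_d ha hc hac
    rwa [← hd a ha c hc t ht1 hta hma]

end Hyp

/-- The passage to `S ⧸ ⟨d⟩`. -/
theorem quotient [Finite S] {Γ : Set S} (h : Hyp Γ) {d : S} (hd1 : d ≠ 1) (hd2 : d * d = 1)
    (hcen : ∀ x : S, Commute d x)
    (hpart : ∀ e ∈ Γ, e * d ∈ Γ ∧ ∃ f ∈ Γ, f * e * f = e * d)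
    (hcomm : ∀ e ∈ Γ, ∀ c ∈ Γ, Commute e c → c = e ∨ c = e * d)
    [(zpowers d).Normal] : Hyp ((QuotientGroup.mk' (zpowers d)) '' Γ) := by
  set π := QuotientGroup.mk' (zpowers d) with hπ
  have hdi : d⁻¹ = d := inv_eq_of_mul_eq_one_right hd2
  have hmem : ∀ {z : S}, z ∈ zpowers d → z = 1 ∨ z = d := by
    rintro z ⟨n, rfl⟩
    rcases Int.even_or_odd' n with ⟨m, rfl | rfl⟩ <;>
      simp [zpow_mul, zpow_add_one, show d ^ (2 : ℤ) = 1 by rw [zpow_two]; exact hd2]
  have hπe : ∀ {x y : S}, π x = π y → y = x ∨ y = x * d := by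
    intro x y hxy
    rcases hmem ((QuotientGroup.eq).1 hxy) with h1 | h1
    · exact Or.inl (inv_mul_eq_one.1 h1).symm
    · exact Or.inr (eq_mul_of_inv_mul_eq h1)
  have hπd : π d = 1 := (QuotientGroup.eq_one_iff d).2 (mem_zpowers d)
  have hU : ∀ {x e : S}, Commute (π x) (π e) → x * e * x⁻¹ = e ∨ x * e * x⁻¹ = e * d := by
    intro x e hxe
    refine hπe ?_
    rw [map_mul, map_mul, map_inv, hxe.eq, mul_inv_cancel_right]
  have hdec : ∀ {x e f : S}, e ∈ Γ → f ∈ Γ → f * e * f = e * d →
      x * e * x⁻¹ = e * d → Commute (f * x) e := by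
    intro x e f he hf hfe hxe
    have h1 : f * x * e * (f * x)⁻¹ = e := by
      rw [mul_inv_rev, h.inv_eq hf]
      calc f * x * e * (x⁻¹ * f) = f * (x * e * x⁻¹) * f := by group
        _ = f * e * f * d := by rw [hxe, mul_assoc, mul_assoc, (hcen f).eq]; group
        _ = e := by rw [hfe, mul_assoc, hd2, mul_one]
    exact mul_inv_eq_iff_eq_mul.1 h1
  -- no element inverted by `f` with square `d` centralises `e`
  have hroot : ∀ {e f y : S}, e ∈ Γ → f ∈ Γ → f * e * f = e * d → Commute y e →
      f * y * f = y⁻¹ → y * y = d → False := by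
    intro e f y he hf hfe hye hyf hyy
    have hne : ¬ Commute e f := fun hc => hd1 (by
      rw [← hc.eq, mul_assoc, h.invol f hf, mul_one] at hfe
      exact mul_left_cancel (hfe.symm.trans (mul_one e).symm))
    have hyinv : y⁻¹ = y * d := inv_eq_of_mul_eq_one_right (by rw [← mul_assoc, hyy, hd2])
    have hcy : Commute (e * y) f := by
      have h1 : f * (e * y) * f = e * y := by
        calc f * (e * y) * f = (f * e * f) * (f * y * f) := by
              rw [show f * e * f * (f * y * f) = f * e * (f * f) * y * f by group, h.invol f hf]; group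
          _ = e * (d * y) * d := by rw [hfe, hyf, hyinv]; group
          _ = e * y := by rw [(hcen y).eq, mul_assoc, mul_assoc, hd2, mul_one]
      calc e * y * f = f * (e * y) * f * f := by rw [h1]
        _ = f * (e * y) := by rw [mul_assoc, h.invol f hf, mul_one]
    refine h.noSqrt e he f hf (hfe ▸ (Commute.refl e).mul_right (hcen e).symm) hne (e * y)
      ((Commute.refl e).mul_left hye) hcy ?_
    rw [hfe, ← mul_assoc e e d, h.invol e he, one_mul]
    calc e * y * (e * y) = e * (y * e) * y := by group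
      _ = e * e * (y * y) := by rw [hye.eq]; group
      _ = d := by rw [h.invol e he, one_mul, hyy]
  -- commutators of `C(e)` with `f`
  have hsmall : ∀ {e f x : S}, e ∈ Γ → f ∈ Γ → f * e * f = e * d → Commute x e →
      x * (f * x⁻¹ * f) = 1 ∨ x * (f * x⁻¹ * f) = d := by
    intro e f x he hf hfe hxe
    set g : S → S := fun z => z * (f * z⁻¹ * f) with hg
    have hfix : ∀ {z : S}, Commute z e → Commute (f * z * f) e := by
      intro z hz
      have h1 : Commute (f * z * f) (f * e * f) := by
        simpa [h.inv_eq hf] using hz.map (MulAut.conj f).toMonoidHom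
      rw [hfe] at h1
      have h2 := h1.mul_right (hcen (f * z * f)).symm
      have h3 : e * d * d = e := by rw [mul_assoc, hd2, mul_one]
      rwa [h3] at h2
    have hgc : ∀ {z : S}, Commute z e → Commute (g z) e := fun hz =>
      hz.mul_left (hfix hz.inv_left)
    have hgf : ∀ {z : S}, Commute z e → f * g z * f = (g z)⁻¹ := by
      intro z hz
      have hc : Commute (f * z * f) z⁻¹ := h.abel e he _ _ (hfix hz) hz.inv_left
      simp only [hg]
      rw [show (z * (f * z⁻¹ * f))⁻¹ = f⁻¹ * z * f⁻¹ * z⁻¹ by group, h.inv_eq hf]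
      calc f * (z * (f * z⁻¹ * f)) * f = f * z * f * (z⁻¹ * (f * f)) := by group
        _ = _ := by rw [h.invol f hf, mul_one]
    have hgmul : ∀ {z w : S}, Commute z e → Commute w e → g (z * w) = g z * g w := by
      intro z w hz hw
      simp only [hg]
      have hc := h.abel e he _ _ (hfix hz.inv_left) (hw.mul_left (hfix hw.inv_left))
      calc z * w * (f * (z * w)⁻¹ * f) = z * (w * (f * w⁻¹ * f) * (f * z⁻¹ * f)) := by
            rw [show w * (f * w⁻¹ * f) * (f * z⁻¹ * f) = w * (f * w⁻¹ * (f * f) * z⁻¹ * f) by group,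
              h.invol f hf]; group
        _ = _ := by rw [← hc.eq]; group
    have hgpow : ∀ n : ℕ, g (x ^ n) = g x ^ n := by
      intro n
      induction n with
      | zero => simp [hg, h.invol f hf]
      | succ n ih => rw [pow_succ, pow_succ, hgmul (hxe.pow_left n) hxe, ih]
    have hinv : ∀ {z : S}, Commute z e → g z * g z = 1 → g z = 1 ∨ g z = d := by
      intro z hz hzz
      have hgi : (g z)⁻¹ = g z := inv_eq_of_mul_eq_one_right hzz
      have hmem' : g z * f ∈ Γ := by
        have := h.conj z f hf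
        simp only [hg]
        rwa [show z * (f * z⁻¹ * f) * f = z * f * z⁻¹ * (f * f) by group, h.invol f hf, mul_one]
      have hcf : Commute (g z) f := by
        have h1 := hgf hz
        rw [hgi] at h1
        calc g z * f = f * g z * f * f := by rw [h1]
          _ = f * g z := by rw [mul_assoc, h.invol f hf, mul_one]
      rcases hcomm f hf _ hmem' ((hcf.symm.mul_right (Commute.refl f))) with h1 | h1
      · exact Or.inl (mul_eq_right.1 h1)
      · rw [← (hcen f).eq] at h1
        exact Or.inr (mul_right_cancel h1)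
    obtain ⟨n, hn⟩ := h.two (g x)
    suffices ∀ n : ℕ, g x ^ 2 ^ n = 1 → g x = 1 ∨ g x = d from this n hn
    intro n
    induction n with
    | zero => intro hn; exact Or.inl (by simpa using hn)
    | succ n ih =>
      intro hn
      rcases hinv (hxe.pow_left (2 ^ n)) (by rw [hgpow, ← pow_add, ← two_mul, ← pow_succ']; exact hn)
        with h1 | h1
      · exact ih (by rwa [hgpow] at h1)
      rcases n with - | n
      · exact Or.inr (by simpa using h1)
      refine (hroot he hf hfe ((hgc hxe).pow_left (2 ^ n)) ?_ ?_).elim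
      · rw [← hgpow, ← hgf (hxe.pow_left _), hgpow]
      · rwa [← pow_add, ← two_mul, ← pow_succ', ← hgpow]
  have hpi : ∀ {x y : S}, Commute x y → Commute (π x) (π y) := fun hc => hc.map π
  constructor
  · exact h.two.to_quotient _
  · exact h.ne.image _
  · rw [← MonoidHom.map_closure, h.gen,
      Subgroup.map_top_of_surjective _ (QuotientGroup.mk'_surjective _)]
  · rintro _ ⟨e, he, rfl⟩
    rw [← map_mul, h.invol e he, map_one]
  · rintro s _ ⟨e, he, rfl⟩
    obtain ⟨s, rfl⟩ := QuotientGroup.mk'_surjective (zpowers d) s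
    exact ⟨_, h.conj s e he, by rw [map_mul, map_mul, map_inv]⟩
  · rintro _ ⟨e, he, rfl⟩ x y hx hy
    obtain ⟨x, rfl⟩ := QuotientGroup.mk'_surjective (zpowers d) x
    obtain ⟨y, rfl⟩ := QuotientGroup.mk'_surjective (zpowers d) y
    obtain ⟨-, f, hf, hfe⟩ := hpart e he
    have hcf : ∀ {z : S}, Commute z e → Commute (π z) (π f) := by
      intro z hz
      have h1 : π (z * (f * z⁻¹ * f)) = 1 := by
        rcases hsmall he hf hfe hz with h1 | h1 <;> rw [h1]
        · exact map_one π
        · exact hπd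
      rw [map_mul, map_mul, map_mul, map_inv] at h1
      have hff : π f * π f = 1 := by rw [← map_mul, h.invol f hf, map_one]
      have h2 : π z * π f * (π z)⁻¹ = (π f)⁻¹ := by
        refine eq_inv_of_mul_eq_one_left ?_
        rw [← h1]; group
      rw [inv_eq_of_mul_eq_one_right hff] at h2
      exact mul_inv_eq_iff_eq_mul.1 h2
    have hsplit : ∀ {z : S}, Commute (π z) (π e) →
        ∃ z₀ : S, Commute z₀ e ∧ (π z = π z₀ ∨ π z = π f * π z₀) := by
      intro z hz
      rcases hU hz with h1 | h1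
      · exact ⟨z, mul_inv_eq_iff_eq_mul.1 h1, Or.inl rfl⟩
      · exact ⟨f * z, hdec he hf hfe h1, Or.inr (by
          rw [← map_mul, ← mul_assoc, h.invol f hf, one_mul])⟩
    obtain ⟨x₀, hx₀, hx'⟩ := hsplit hx
    obtain ⟨y₀, hy₀, hy'⟩ := hsplit hy
    have c0 := hpi (h.abel e he _ _ hx₀ hy₀)
    have cx := hcf hx₀
    have cy := hcf hy₀
    rcases hx' with hx' | hx' <;> rcases hy' with hy' | hy' <;> rw [hx', hy']
    · exact c0
    · exact cx.mul_right c0
    · exact cy.symm.mul_left c0
    · exact ((Commute.refl _).mul_right cy.symm).mul_left (cx.mul_right c0)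
  · rintro _ ⟨e, he, rfl⟩ _ ⟨c₁, hc₁, rfl⟩ _ ⟨c₂, hc₂, rfl⟩ h1 h2 n1 n2
    obtain ⟨-, f, hf, hfe⟩ := hpart e he
    suffices ∀ c ∈ Γ, Commute (π e) (π c) → π c ≠ π e → π c = π f from
      (this c₁ hc₁ h1 n1).trans (this c₂ hc₂ h2 n2).symm
    intro c hc hec hne
    rcases hU hec.symm with h3 | h3
    · rcases hcomm e he c hc (mul_inv_eq_iff_eq_mul.1 h3).symm with h4 | h4
      · exact absurd (congrArg π h4) hne
      · exact absurd (by rw [h4, map_mul, hπd, mul_one]) hne
    have hx := hdec he hf hfe h3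
    have hxi : f * (f * c) * f = (f * c)⁻¹ := by
      rw [mul_inv_rev, h.inv_eq hc, h.inv_eq hf, ← mul_assoc, h.invol f hf, one_mul]
    have hx2 : f * c * (f * c) = 1 ∨ f * c * (f * c) = d := by
      have := hsmall he hf hfe hx
      rwa [mul_inv_rev, h.inv_eq hc, h.inv_eq hf, show f * (c * f) * f = f * c * (f * f) by group,
        h.invol f hf, mul_one] at this
    rcases hx2 with h4 | h4
    · have hfc : Commute f c := by
        have h5 : f * c = (f * c)⁻¹ := eq_inv_of_mul_eq_one_left h4
        rwa [mul_inv_rev, h.inv_eq hc, h.inv_eq hf] at h5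
      rcases hcomm f hf c hc hfc with h5 | h5
      · rw [h5]
      · rw [h5, map_mul, hπd, mul_one]
    · exact (hroot he hf hfe hx hxi h4).elim
  · rintro _ ⟨e, he, rfl⟩ _ ⟨b, hb, rfl⟩ hcc hne yb hye hyb hyy
    obtain ⟨y, rfl⟩ := QuotientGroup.mk'_surjective (zpowers d) yb
    obtain ⟨-, f, hf, hfe⟩ := hpart e he
    have hcc' : Commute (π e) (π (b * e * b)) := by simpa [map_mul] using hcc
    have hbeb : b * e * b ∈ Γ := h.conj' he hb
    have hbb : π b * π b = 1 := by rw [← map_mul, h.invol b hb, map_one]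
    have hne' : π (b * e * b) ≠ π e := by
      intro h1
      refine hne ?_
      rw [map_mul, map_mul] at h1
      calc π e * π b = π b * π e * π b * π b := by rw [h1]
        _ = π b * π e := by rw [mul_assoc, hbb, mul_one]
    -- so the square of `y` is `e f` modulo `d`
    have hbf : π (b * e * b) = π f := by
      rcases hU hcc'.symm with h3 | h3
      · rcases hcomm e he _ hbeb (mul_inv_eq_iff_eq_mul.1 h3).symm with h4 | h4
        · exact absurd (congrArg π h4) hne'
        · exact absurd (by rw [h4, map_mul, hπd, mul_one]) hne'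
      · set c := b * e * b
        have hx := hdec he hf hfe h3
        rcases hsmall he hf hfe hx with h4 | h4
        all_goals
          rw [mul_inv_rev, h.inv_eq hbeb, h.inv_eq hf,
            show f * (c * f) * f = f * c * (f * f) by group, h.invol f hf, mul_one] at h4
        · have hfc : Commute f c := by
            have h5 : f * c = (f * c)⁻¹ := eq_inv_of_mul_eq_one_left h4
            rwa [mul_inv_rev, h.inv_eq hbeb, h.inv_eq hf] at h5
          rcases hcomm f hf c hbeb hfc with h5 | h5
          · rw [h5]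
          · rw [h5, map_mul, hπd, mul_one]
        · exact (hroot he hf hfe hx (by
            rw [mul_inv_rev, h.inv_eq hbeb, h.inv_eq hf, ← mul_assoc, h.invol f hf, one_mul]) h4).elim
    rw [show π b * π e * π b = π (b * e * b) by simp, hbf, ← map_mul, ← map_mul] at hyy
    have hyy2 : Commute (y * y) e := by
      rcases hU hye with h1 | h1
      · have := mul_inv_eq_iff_eq_mul.1 h1
        exact Commute.mul_left this this
      · have hz := hdec he hf hfe h1
        have hz' : Commute (f * (f * y) * f) e := by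
          have h5 := hz.map (MulAut.conj f).toMonoidHom
          simp only [MulEquiv.coe_toMonoidHom, MulAut.conj_apply, h.inv_eq hf, hfe] at h5
          have := h5.mul_right (hcen (f * (f * y) * f)).symm
          rwa [mul_assoc e, hd2, mul_one] at this
        have := hz'.mul_left hz
        rwa [show f * (f * y) * f * (f * y) = (f * f) * y * ((f * f) * y) by group, h.invol f hf,
          one_mul] at this
    have hef : Commute (e * f) e := by
      rcases hπe hyy with h1 | h1
      · rwa [h1]
      · rw [h1]; exact hyy2.mul_left (hcen e)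
    refine hd1 ?_
    have : Commute f e := by simpa using ((Commute.refl e).inv_left.mul_left hef)
    rw [this.eq, mul_assoc, h.invol f hf, mul_one] at hfe
    exact mul_left_cancel (hfe.symm.trans (mul_one e).symm)

/-- **Main result.** -/
theorem main : ∀ (n : ℕ) (S : Type u) [Group S] [Finite S] (Γ : Set S), Nat.card S ≤ n → Hyp Γ →
    (∃ a ∈ Γ, ∃ b ∈ Γ, closure ({a, b} : Set S) = ⊤) ∧
      ∀ σ : MulAut S, (∀ e ∈ Γ, σ e ∈ Γ) → (∃ m : ℕ, Odd m ∧ σ ^ m = 1) → ∀ e ∈ Γ, σ e = e := by
  intro n
  induction n with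
  | zero => intro S _ _ Γ hc; exact absurd hc (not_le_of_gt Nat.card_pos)
  | succ n ih =>
    intro S _ _ Γ hc h
    -- the orbit of a member under an automorphism of odd order has odd length
    have horb : ∀ (σ : MulAut S) (m : ℕ), Odd m → σ ^ m = 1 → ∀ e : S, σ (σ e) = e → σ e = e := by
      intro σ m hm hσ e he
      obtain ⟨k, rfl⟩ := hm
      have h2 : ∀ j : ℕ, (σ ^ (2 * j)) e = e := by
        intro j
        induction j with
        | zero => simp
        | succ j ihj =>
          rw [show 2 * (j + 1) = 2 * j + 2 by ring, pow_add, MulAut.mul_apply, sq, MulAut.mul_apply,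
            he]
          exact ihj
      have h3 := congrArg (fun s : MulAut S => s (σ e)) hσ
      simp only [MulAut.one_apply] at h3
      rw [pow_succ, MulAut.mul_apply, he, h2] at h3
      exact h3.symm
    by_cases hna : ∃ e ∈ Γ, ∃ b ∈ Γ, ¬ Commute e b
    · obtain ⟨d, hd1, hd2, hcen, hpart, hcomm, hgen⟩ := h.exists_global hna
      haveI : (zpowers d).Normal := ⟨fun z hz g => by
        obtain ⟨k, rfl⟩ := hz
        refine ⟨k, ?_⟩
        simp only
        rw [← ((hcen g).zpow_left k).eq, mul_inv_cancel_right]⟩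
      have hq := quotient h hd1 hd2 hcen hpart hcomm
      have hlt : Nat.card (S ⧸ zpowers d) ≤ n := by
        have h1 : Nat.card S = Nat.card (S ⧸ zpowers d) * Nat.card (zpowers d) :=
          Subgroup.card_eq_card_quotient_mul_card_subgroup _
        have h2 : 2 ≤ Nat.card (zpowers d) := by
          rw [Nat.card_zpowers, orderOf_eq_prime (p := 2) (by rw [sq]; exact hd2) hd1]
        have h3 : 0 < Nat.card (S ⧸ zpowers d) := Nat.card_pos
        nlinarith
      obtain ⟨⟨_, ⟨a, ha, rfl⟩, _, ⟨b, hb, rfl⟩, hab⟩, hfix⟩ := ih _ _ hlt hq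
      constructor
      · have hsup : closure ({a, b} : Set S) ⊔ zpowers d = ⊤ := by
          have h1 := congrArg (Subgroup.comap (QuotientGroup.mk' (zpowers d))) hab
          rw [comap_top, ← Set.image_pair, ← MonoidHom.map_closure, comap_map_eq,
            QuotientGroup.ker_mk'] at h1
          exact h1
        by_cases hcab : Commute a b
        · exfalso
          obtain ⟨e, he, c, hc', hne⟩ := hna
          have hall : ∀ x : S, Commute x a := by
            intro x
            have hle : closure ({a, b} : Set S) ⊔ zpowers d ≤ centralizer ({a} : Set S) := by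
              refine sup_le ((closure_le _).2 ?_) (zpowers_le.2 ?_)
              · rintro z (rfl | rfl) <;> rw [SetLike.mem_coe, mem_centralizer_singleton_iff]
                exact hcab.symm
              · rw [mem_centralizer_singleton_iff]; exact hcen a
            exact mem_centralizer_singleton_iff.1 (hle (hsup ▸ mem_top x))
          exact hne (h.abel a ha e c (hall e) (hall c))
        exact ⟨a, ha, b, hb, by rwa [sup_eq_left.2 (zpowers_le.2 (hgen a ha b hb hcab))] at hsup⟩
      · rintro σ hσ ⟨m, hm, hσm⟩ e he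
        have hσd : σ d = d := by
          have h1 := hσ _ (hpart e he).1
          rw [map_mul] at h1
          have h2 : Commute (σ e) (σ e * σ d) := by
            refine (Commute.refl _).mul_right ?_
            exact ((hcen e).map σ.toMonoidHom).symm
          rcases hcomm _ (hσ e he) _ h1 h2 with h3 | h3
          · exact absurd (σ.injective ((mul_eq_left.1 h3).trans (map_one σ).symm)) hd1
          · exact mul_left_cancel h3
        have hmap : (zpowers d).map σ.toMonoidHom = zpowers d := by
          rw [MonoidHom.map_zpowers]; exact congrArg zpowers hσd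
        set τ : MulAut (S ⧸ zpowers d) := QuotientGroup.congr _ _ σ hmap with hτ
        have hτa : ∀ x : S, τ (QuotientGroup.mk' (zpowers d) x) =
            QuotientGroup.mk' (zpowers d) (σ x) := fun x => rfl
        have hτp : ∀ (k : ℕ) (x : S), (τ ^ k) (QuotientGroup.mk' (zpowers d) x) =
            QuotientGroup.mk' (zpowers d) ((σ ^ k) x) := by
          intro k
          induction k with
          | zero => intro x; rfl
          | succ k ihk =>
            intro x
            rw [pow_succ, pow_succ, MulAut.mul_apply, MulAut.mul_apply, hτa, ihk]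
        have hτm : τ ^ m = 1 := MulEquiv.ext fun q => by
          obtain ⟨x, rfl⟩ := QuotientGroup.mk'_surjective (zpowers d) q
          rw [hτp, hσm]; rfl
        have h4 := hfix τ (by
          rintro _ ⟨x, hx, rfl⟩
          exact ⟨σ x, hσ x hx, (hτa x).symm⟩) ⟨m, hm, hτm⟩ _ ⟨e, he, rfl⟩
        rw [hτa] at h4
        obtain ⟨k, hk⟩ := Subgroup.mem_zpowers_iff.1 (QuotientGroup.eq.1 h4)
        have hd2' : d ^ (2 : ℤ) = 1 := by rw [zpow_two]; exact hd2
        rcases Int.even_or_odd' k with ⟨i, rfl | rfl⟩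
        · rw [zpow_mul, hd2', one_zpow] at hk
          exact inv_mul_eq_one.1 hk.symm
        · rw [zpow_add_one, zpow_mul, hd2', one_zpow, one_mul] at hk
          refine horb σ m hm hσm e ?_
          have h5 : σ e * d = e := by rw [hk, mul_inv_cancel_left]
          have h6 : σ e = e * d := by
            calc σ e = σ e * d * d := by rw [mul_assoc, hd2, mul_one]
              _ = e * d := by rw [h5]
          rw [h6, map_mul, h6, hσd, mul_assoc, hd2, mul_one]
    · push Not at hna
      obtain ⟨a, ha⟩ := h.ne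
      have hall : ∀ c ∈ Γ, c ≠ a → ∀ c' ∈ Γ, c' ≠ a → c = c' := fun c hc hca c' hc' hc'a =>
        h.pair a ha c hc c' hc' (hna a ha c hc) (hna a ha c' hc') hca hc'a
      constructor
      · by_cases hb : ∃ b ∈ Γ, b ≠ a
        · obtain ⟨b, hb, hba⟩ := hb
          refine ⟨a, ha, b, hb, top_le_iff.1 (h.gen ▸ closure_mono fun c hc => ?_)⟩
          by_cases hca : c = a
          · exact Or.inl hca
          · exact Or.inr (hall c hc hca b hb hba)
        · push Not at hb
          exact ⟨a, ha, a, ha, top_le_iff.1 (h.gen ▸ closure_mono fun c hc => Or.inl (hb c hc))⟩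
      · rintro σ hσ ⟨m, hm, hσm⟩ e he
        refine horb σ m hm hσm e ?_
        by_contra hne
        have h1 : σ e ≠ e := fun h1 => hne (by rw [h1, h1])
        have h2 : σ (σ e) ≠ σ e := fun h2 => h1 (σ.injective h2)
        exact hne (h.pair (σ e) (hσ e he) _ (hσ _ (hσ e he)) e he (hna _ (hσ e he) _ (hσ _ (hσ e he)))
          (hna _ (hσ e he) e he) h2 h1.symm)

end Cfsg.Agent.Lib.AbelInter85.Soft
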