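import Cfsg.Agent.Lib.AbelInter85.Omega
import Cfsg.Agent.Lib.AbelInter85.Twin
import Cfsg.Agent.Lib.AbelInter85.Soft

/-!
# Abelian Sylow 2-intersections: non-normal essential subgroups with `|E : Z| = 2`

The conjugates `c` outside `Z` of the commutators `[E, F]` form the set `gam`; they are soft
involutions, so they generate a subgroup generated by two of them, and elements of odd order of `N(S)`
fix them.
-/

set_option autoImplicit false
set_option linter.unusedSectionVars false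

namespace Cfsg.Agent.Lib.AbelInter85

open Subgroup Cfsg.Agent.Lib.Fusion.Alperin Offender

variable {G : Type*} [Group G] [Finite G] {S : Sylow 2 G} {E F : Subgroup G} {hA : AI G}

/-- A twin pair of non-normal subgroups. -/
structure NPair (hA : AI G) (S : Sylow 2 G) (E F : Subgroup G) : Prop where
  twin : Twin hA S E F
  left : ¬ (S : Subgroup G) ≤ normalizer (E : Set G)
  right : ¬ (S : Subgroup G) ≤ normalizer (F : Set G)

theorem NPair.symm (h : NPair hA S E F) : NPair hA S F E := ⟨h.twin.symm, h.right, h.left⟩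

theorem NPair.conj (h : NPair hA S E F) {g : G}
    (hg : g ∈ normalizer ((S : Subgroup G) : Set G)) : NPair hA S (conjS g E) (conjS g F) := by
  have key : ∀ {X : Subgroup G}, ¬ (S : Subgroup G) ≤ normalizer (X : Set G) →
      ¬ (S : Subgroup G) ≤ normalizer (conjS g X : Set G) := fun {X} hX hle => hX (by
    have := conjS_mono (g := g⁻¹) hle
    rwa [conjS_normalizer, conjS_inv_conjS, conjS_eq_of_mem_normalizer (inv_mem hg)] at this)
  exact ⟨h.twin.conj hg, key h.left, key h.right⟩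

theorem exists_nPair (hE : Ess hA S E) (hnn : ¬ (S : Subgroup G) ≤ normalizer (E : Set G)) :
    ∃ F, NPair hA S E F := by
  obtain ⟨g, hg, -, -, ht⟩ := exists_twin hE hnn
  refine ⟨_, ht, hnn, fun hle => hnn ?_⟩
  have := conjS_mono (g := g⁻¹) hle
  rwa [conjS_normalizer, conjS_inv_conjS,
    conjS_eq_of_mem_normalizer (le_normalizer (inv_mem hg))] at this

/-- Every non-normal essential pair has `|E : E ⊓ F| = 2`. -/
def AllSmall (hA : AI G) (S : Sylow 2 G) : Prop :=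
  ∀ E F : Subgroup G, NPair hA S E F → Nat.card E ≤ 2 * Nat.card ↥(E ⊓ F : Subgroup G)

/-- Conjugates under `N(E)` of commutators `[E, F]` lying outside `Z`. -/
def gam (hA : AI G) (S : Sylow 2 G) : Set G :=
  {c | ∃ E F : Subgroup G, NPair hA S E F ∧ c ∈ E ∧ c ∉ F ∧
    ∃ e ∈ E, ∃ f ∈ F, ∃ n ∈ normalizer (E : Set G), c = n * cm e f * n⁻¹}

theorem gam_conj {s c : G} (hs : s ∈ normalizer ((S : Subgroup G) : Set G)) (hc : c ∈ gam hA S) :
    s * c * s⁻¹ ∈ gam hA S := by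
  obtain ⟨E, F, h, hcE, hcF, e, he, f, hf, n, hn, rfl⟩ := hc
  refine ⟨conjS s E, conjS s F, h.conj hs, conj_mem_conjS hcE, fun hh => hcF ?_, s * e * s⁻¹,
    conj_mem_conjS he, s * f * s⁻¹, conj_mem_conjS hf, s * n * s⁻¹, mem_normalizer_conjS hn,
    by simp only [cm]; group⟩
  rw [mem_conjS] at hh
  simpa [mul_assoc] using hh

/-- Conjugation preserves `core2`. -/
theorem conj_mem_core2 {n z : G} (hn : n ∈ normalizer (E : Set G)) (hz : z ∈ core2 E) :
    n * z * n⁻¹ ∈ core2 E := by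
  obtain ⟨hzE, hfix⟩ := mem_core2.1 hz
  refine mem_core2.2 ⟨le_normalizer_of_mem hn hzE, fun l hl => ?_⟩
  obtain ⟨k, hk⟩ := hl
  have h1 := hfix ((autOf E hn)⁻¹ * l * autOf E hn) ⟨k, by
    rw [show (autOf E hn)⁻¹ * l * autOf E hn = (autOf E hn)⁻¹ * l * ((autOf E hn)⁻¹)⁻¹ by rw [inv_inv],
      conj_pow, hk, mul_one, mul_inv_cancel]⟩
  rw [mul_smul, mul_smul, inv_smul_eq_iff] at h1
  exact h1

namespace NPair

theorem mul_mem_inf (h : NPair hA S E F) (hs : AllSmall hA S) {a b : G} (ha : a ∈ E) (haF : a ∉ F)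
    (hb : b ∈ E) (hbF : b ∉ F) : a * b ∈ E ⊓ F := by
  have hi : ((E ⊓ F).subgroupOf E).index = 2 := by
    have h1 := Subgroup.index_mul_card ((E ⊓ F).subgroupOf E)
    rw [Nat.card_congr (subgroupOfEquivOfLe (inf_le_left : E ⊓ F ≤ E)).toEquiv] at h1
    have h2 : ((E ⊓ F).subgroupOf E).index ≤ 2 := by
      refine Nat.le_of_mul_le_mul_right ?_ (Nat.card_pos : 0 < Nat.card ↥(E ⊓ F : Subgroup G))
      rw [h1]
      exact hs E F h
    have h3 : ((E ⊓ F).subgroupOf E).index ≠ 1 := fun e => by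
      rw [Subgroup.index_eq_one, subgroupOf_eq_top] at e
      exact haF (e ha).2
    have h4 : ((E ⊓ F).subgroupOf E).index ≠ 0 := Subgroup.FiniteIndex.index_ne_zero
    omega
  have := Subgroup.mul_mem_iff_of_index_two hi (a := ⟨a, ha⟩) (b := ⟨b, hb⟩)
  simp only [mem_subgroupOf, Subgroup.coe_mul, mem_inf] at this
  exact mem_inf.2 (this.2 ⟨fun h' => absurd h'.2 haF, fun h' => absurd h'.2 hbF⟩)

theorem card_offA_eq (h : NPair hA S E F) (hs : AllSmall hA S) : Nat.card ↥(offA E F) = 2 := by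
  have h1 := h.twin.left.card_offA
  rw [← h.twin.left.card_eq] at h1
  have h2 : Nat.card ↥(offA E F) ≤ 2 := by
    refine Nat.le_of_mul_le_mul_right ?_ (Nat.card_pos : 0 < Nat.card ↥(E ⊓ F : Subgroup G))
    rw [h1]
    exact hs E F h
  have h3 : 1 < Nat.card ↥(offA E F) :=
    (Subgroup.one_lt_card_iff_ne_bot _).2 h.twin.left.offender.ne
  omega

theorem cm_eq_one_left (h : NPair hA S E F) {z f : G} (hz : z ∈ E ⊓ F) (hf : f ∈ F) : cm z f = 1 :=
  cm_eq_one_iff.2 (h.twin.left.cand.comm z hz.2 f hf)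

theorem cm_eq_one_right (h : NPair hA S E F) {e z : G} (he : e ∈ E) (hz : z ∈ E ⊓ F) : cm e z = 1 :=
  cm_eq_one_iff.2 (h.twin.left.candE.comm e he z hz.1)

/-- There is a single non-trivial commutator `[e, f]`. -/
theorem cm_cases (h : NPair hA S E F) (hs : AllSmall hA S) {e f e' f' : G} (he : e ∈ E) (heF : e ∉ F)
    (hf : f ∈ F) (hfE : f ∉ E) (he' : e' ∈ E) (hf' : f' ∈ F) :
    cm e' f' = 1 ∨ cm e' f' = cm e f := by
  by_cases hz : e' ∈ F
  · exact Or.inl (h.cm_eq_one_left (mem_inf.2 ⟨he', hz⟩) hf')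
  by_cases hz' : f' ∈ E
  · exact Or.inl (h.cm_eq_one_right he' (mem_inf.2 ⟨hz', hf'⟩))
  right
  have h1 := h.mul_mem_inf hs (inv_mem he) (fun hh => heF (by simpa using inv_mem hh)) he' hz
  have h2 := h.symm.mul_mem_inf (fun X Y hXY => hs X Y hXY) (inv_mem hf)
    (fun hh => hfE (by simpa using inv_mem hh)) hf' hz'
  rw [inf_comm] at h2
  rw [show e' = e * (e⁻¹ * e') from (mul_inv_cancel_left _ _).symm,
    show f' = f * (f⁻¹ * f') from (mul_inv_cancel_left _ _).symm,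
    h.twin.left.cm_mul_left he h1.1 (mul_mem hf h2.2), h.cm_eq_one_left h1 (mul_mem hf h2.2),
    mul_one, h.twin.left.cm_mul_right he hf h2.2, h.cm_eq_one_right he h2, mul_one]

theorem exists_d (h : NPair hA S E F) :
    ∃ e ∈ E, e ∉ F ∧ ∃ f ∈ F, f ∉ E ∧ cm e f ∉ core2 E := by
  obtain ⟨e, he, heF, -⟩ := h.twin.exists_notMem
  obtain ⟨f, hf, hfE, -⟩ := h.twin.symm.exists_notMem
  exact ⟨e, he, heF, f, hf, hfE, fun hc => heF (h.twin.left.mem_of_cm_core he hf hfE hc)⟩

/-- `Z = core2 ∪ d core2`. -/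
theorem mul_mem_core (h : NPair hA S E F) (hs : AllSmall hA S) {z d : G} (hd : d ∈ E ⊓ F)
    (hdc : d ∉ core2 E) (hz : z ∈ E ⊓ F) (hzc : z ∉ core2 E) : d * z ∈ core2 E := by
  haveI : Fact (Nat.Prime 2) := ⟨Nat.prime_two⟩
  obtain ⟨x, hx⟩ := h.twin.left.offender.moving
  have hi : ((Hyp.zed ↥E (offA E F) x).subgroupOf (fixW (offA E F))).index = 2 :=
    (h.twin.left.offender.relIndex_zed hx).trans (h.card_offA_eq hs)
  have hzm : ∀ {y : G} (hy : y ∈ E ⊓ F), (⟨y, hy.1⟩ : ↥E) ∈ fixW (offA E F) := fun hy =>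
    h.twin.left.mem_fixW_iff.2 hy.2
  have := Subgroup.mul_mem_iff_of_index_two hi (a := ⟨⟨d, hd.1⟩, hzm hd⟩) (b := ⟨⟨z, hz.1⟩, hzm hz⟩)
  simp only [mem_subgroupOf, Subgroup.coe_mul, h.twin.left.zed_eq_core2 hx] at this
  exact this.2 ⟨fun h' => absurd h' hdc, fun h' => absurd h' hzc⟩

/-- Sylow subgroups of the automiser are moved by 2-elements. -/
theorem exists_two_element (h : NPair hA S E F) (hs : AllSmall hA S) (l : ↥(aut E)) :
    ∃ (b : ↥(aut E)) (y : ↥(aut E)) (a : ↥(aut E)), a ∈ offA E F ∧ b = y * a * y⁻¹ ∧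
      b • h.twin.left.candE.sylL hA = l • h.twin.left.candE.sylL hA := by
  haveI : Fact (Nat.Prime 2) := ⟨Nat.prime_two⟩
  have hoff := h.twin.left.offender
  set P := h.twin.left.candE.sylL hA
  by_cases hl : l • P = P
  · exact ⟨1, 1, 1, one_mem _, by simp, by rw [one_smul, hl]⟩
  obtain ⟨a₀, ha₀, ha₀1⟩ := (offA E F).bot_or_exists_ne_one.resolve_left hoff.ne
  set z := a₀ * l with hz
  have h1 : z⁻¹ • P ≠ P := fun e => by
    rw [inv_smul_eq_iff] at e
    have hz' : z • P ≠ P := by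
      intro e'
      rw [hz, mul_smul, smul_eq_iff_eq_inv_smul] at e'
      refine hl (e'.trans ?_)
      exact Sylow.smul_eq_iff_mem_normalizer.2 (le_normalizer (hoff.le (inv_mem ha₀)))
    exact hz' e.symm
  have h2 : (z⁻¹ * l) • P ≠ P := fun e => by
    rw [mul_smul, inv_smul_eq_iff, hz, mul_smul] at e
    exact hoff.smul_sylow_ne ha₀ ha₀1 hl (by rw [mul_smul]; exact e.symm)
  obtain ⟨a, ha, he⟩ := hoff.exists_conj h1 h2
  refine ⟨z * a * z⁻¹, z, a, ha, rfl, ?_⟩
  rw [mul_assoc, mul_smul, ← he, ← mul_smul, mul_inv_cancel_left]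

theorem smul_cm (h : NPair hA S E F) {f : G} (hf : f ∈ F) (v : ↥E) :
    ((br (autOf E (h.twin.left.nF hf)) v : ↥E) : G) = cm (v : G)⁻¹ f := by
  rw [br, Subgroup.coe_mul, InvMemClass.coe_inv, autOf_smul]
  simp only [cm]; group

/-- `n ∈ N(E)` acts as an element of `N(S)` up to a conjugate of a commutator. -/
theorem exists_near (h : NPair hA S E F) (hs : AllSmall hA S) {n : G}
    (hn : n ∈ normalizer (E : Set G)) :
    ∃ k ∈ normalizer (E : Set G) ⊓ normalizer ((S : Subgroup G) : Set G),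
      (∀ z ∈ core2 E, n * z * n⁻¹ = k * z * k⁻¹) ∧
      ∀ x ∈ E, ∃ e ∈ E, ∃ f ∈ F, ∃ m ∈ normalizer (E : Set G),
        n * x * n⁻¹ = k * x * k⁻¹ * (m * cm e f * m⁻¹) := by
  haveI : Fact (Nat.Prime 2) := ⟨Nat.prime_two⟩
  obtain ⟨b, y, a, ha, hb, hbP⟩ := h.exists_two_element hs (autOf E hn)
  obtain ⟨m, hm, rfl⟩ := exists_autOf y
  obtain ⟨f, hf, rfl⟩ := h.twin.left.mem_offA.1 ha
  obtain ⟨n', hn', hn'e⟩ := exists_autOf (b⁻¹ * autOf E hn)
  have hfix : autOf E hn' • h.twin.left.candE.sylL hA = h.twin.left.candE.sylL hA := by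
    rw [hn'e, mul_smul, ← hbP, inv_smul_smul]
  obtain ⟨k, hk, hke⟩ := h.twin.left.candE.exists_split hA hn' hfix
  have key : ∀ (x : ↥E), ((autOf E hn • x : ↥E) : G) =
      ((b • (⟨k * x * k⁻¹, le_normalizer_of_mem hk.1 x.2⟩ : ↥E) : ↥E) : G) := by
    intro x
    have h1 : (⟨k * x * k⁻¹, le_normalizer_of_mem hk.1 x.2⟩ : ↥E) = autOf E hn' • x :=
      Subtype.ext (by rw [autOf_smul, hke x x.2])
    rw [h1, hn'e, mul_smul, smul_inv_smul]
  refine ⟨k, hk, fun z hz => ?_, fun x hx => ?_⟩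
  · obtain ⟨hzE, -⟩ := mem_core2.1 hz
    obtain ⟨hkE, hfixk⟩ := mem_core2.1 (conj_mem_core2 hk.1 hz)
    have h1 := key ⟨z, hzE⟩
    rw [autOf_smul] at h1
    rw [h1, hb]
    refine congrArg Subtype.val (hfixk _ ⟨1, ?_⟩)
    rw [conj_pow, pow_one, h.twin.left.offender.pow_eq_one (h.twin.left.autOf_mem_offA hf),
      mul_one, mul_inv_cancel]
  · set w : ↥E := ⟨k * x * k⁻¹, le_normalizer_of_mem hk.1 hx⟩ with hw
    have h1 := key ⟨x, hx⟩
    rw [autOf_smul] at h1
    set v : ↥E := (autOf E hm)⁻¹ • w with hv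
    refine ⟨(v : G)⁻¹, inv_mem v.2, f, hf, m, hm, ?_⟩
    rw [h1, hb, mul_smul, mul_smul, ← hv, smul_eq_mul_br _ v, smul_mul', hv, smul_inv_smul,
      Subgroup.coe_mul, autOf_smul, ← hv, h.smul_cm hf v]

/-- `C_S(c) = E` for `c ∈ E ∖ F`. -/
theorem mem_of_commute (h : NPair hA S E F) {c s : G} (hc : c ∈ E) (hcF : c ∉ F)
    (hs : s ∈ (S : Subgroup G)) (hcs : s * c = c * s) : s ∈ E := by
  haveI : Fact (Nat.Prime 2) := ⟨Nat.prime_two⟩
  set C := (S : Subgroup G) ⊓ centralizer ({c} : Set G) with hC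
  have hEC : E ≤ C := le_inf h.twin.left.candE.le fun x hx =>
    mem_centralizer_singleton_iff.2 (h.twin.left.candE.comm x hx c hc)
  have hsC : s ∈ C := mem_inf.2 ⟨hs, mem_centralizer_singleton_iff.2 hcs⟩
  by_contra hsE
  have hlt : E < C := lt_of_le_of_ne hEC fun e => hsE (e ▸ hsC)
  obtain ⟨u, hu, huE⟩ := SetLike.exists_of_lt (lt_inf_normalizer (S.2.to_le inf_le_left) hlt)
  exact huE (h.twin.mem_of_commute (mem_inf.2 ⟨hu.1.1, hu.2⟩) hc hcF
    (mem_centralizer_singleton_iff.1 hu.1.2))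

/-- The members of `gam` belonging to `E`. -/
theorem exists_gam (h : NPair hA S E F) : ∃ c ∈ gam hA S, c ∈ E ∧ c ∉ F := by
  haveI : Fact (Nat.Prime 2) := ⟨Nat.prime_two⟩
  obtain ⟨e, he, heF, f, hf, hfE, hd⟩ := h.exists_d
  have hdm := h.twin.left.cm_mem he hf
  obtain ⟨x, hx⟩ := h.twin.left.offender.moving
  obtain ⟨m, hm, rfl⟩ := exists_autOf x
  have hcE : m * cm e f * m⁻¹ ∈ E := le_normalizer_of_mem hm hdm.1
  have hcF : m * cm e f * m⁻¹ ∉ F := by
    intro hF
    refine hd ?_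
    set P := h.twin.left.candE.sylL hA
    have hxi : (autOf E hm)⁻¹ • P ≠ P := fun e => hx (inv_smul_eq_iff.1 e).symm
    refine (h.twin.left.zed_eq_core2 hxi (z := ⟨cm e f, hdm.1⟩)).1
      (mem_inf.2 ⟨h.twin.left.mem_fixW_iff.2 hdm.2, ?_⟩)
    rw [mem_shift, inv_inv]
    exact h.twin.left.mem_fixW_iff.2 hF
  exact ⟨_, ⟨E, F, h, hcE, hcF, e, he, f, hf, m, hm, rfl⟩, hcE, hcF⟩

theorem conj_d (h : NPair hA S E F) (hs : AllSmall hA S) {e f m : G} (he : e ∈ E) (heF : e ∉ F)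
    (hf : f ∈ F) (hfE : f ∉ E) (hm : m ∈ normalizer (E : Set G))
    (hfix : autOf E hm • h.twin.left.candE.sylL hA = h.twin.left.candE.sylL hA) :
    m * cm e f * m⁻¹ = cm e f := by
  obtain ⟨k, hk, hke⟩ := h.twin.left.candE.exists_split hA hm hfix
  have hd := h.twin.left.cm_mem he hf
  rw [hke _ hd.1, show k * cm e f * k⁻¹ = cm (k * e * k⁻¹) (k * f * k⁻¹) by simp only [cm]; group]
  have hF : conjS k F = F := by
    have hkU : k ∈ normalizer (uS S E : Set G) := mem_normalizer_of_conjS_eq (by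
      rw [conjS_uS hk.2, conjS_eq_of_mem_normalizer hk.1])
    refine (h.twin.symm.perm hk.2 (by rwa [h.twin.uS_eq])).resolve_right fun e' => h.twin.left.ne ?_
    rw [← conjS_inv_conjS k E, conjS_eq_of_mem_normalizer hk.1, ← e', conjS_inv_conjS]
  refine (h.cm_cases hs he heF hf hfE (le_normalizer_of_mem hk.1 he)
    (hF ▸ conj_mem_conjS hf)).resolve_left fun h1 => heF ?_
  have h2 : cm e f = 1 := by
    rw [show cm e f = k⁻¹ * cm (k * e * k⁻¹) (k * f * k⁻¹) * k by simp only [cm]; group, h1]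
    group
  exact h.twin.left.mem_of_commute he hf hfE (cm_eq_one_iff.1 h2)

/-- At most two members of `gam` belong to `E`; they differ by the commutator. -/
theorem gam_pair (h : NPair hA S E F) (hs : AllSmall hA S) {e f m m' : G} (he : e ∈ E) (heF : e ∉ F)
    (hf : f ∈ F) (hfE : f ∉ E) (hm : m ∈ normalizer (E : Set G)) (hm' : m' ∈ normalizer (E : Set G))
    (hc : m * cm e f * m⁻¹ ∉ F) (hc' : m' * cm e f * m'⁻¹ ∉ F) :
    m' * cm e f * m'⁻¹ = m * cm e f * m⁻¹ ∨ m' * cm e f * m'⁻¹ = m * cm e f * m⁻¹ * cm e f := by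
  haveI : Fact (Nat.Prime 2) := ⟨Nat.prime_two⟩
  have hd := h.twin.left.cm_mem he hf
  set P := h.twin.left.candE.sylL hA
  have hne : ∀ {k : G} (hk : k ∈ normalizer (E : Set G)), k * cm e f * k⁻¹ ∉ F →
      autOf E hk • P ≠ P := fun hk hkF e' => hkF (by rw [h.conj_d hs he heF hf hfE hk e']; exact hd.2)
  obtain ⟨a, ha, hae⟩ := h.twin.left.offender.exists_conj (hne hm hc) (hne hm' hc')
  obtain ⟨f', hf', rfl⟩ := h.twin.left.mem_offA.1 ha
  have hj : m⁻¹ * f'⁻¹ * m' ∈ normalizer (E : Set G) :=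
    mul_mem (mul_mem (inv_mem hm) (inv_mem (h.twin.left.nF hf'))) hm'
  have hfix : autOf E hj • P = P := by
    rw [autOf_mul (mul_mem (inv_mem hm) (inv_mem (h.twin.left.nF hf'))) hm',
      autOf_mul (inv_mem hm) (inv_mem (h.twin.left.nF hf')), autOf_inv hm,
      autOf_inv (h.twin.left.nF hf'), mul_smul, hae, mul_smul, mul_smul, inv_smul_smul, inv_smul_smul]
  have h1 := h.conj_d hs he heF hf hfE hj hfix
  set c := m * cm e f * m⁻¹ with hcdef
  have hcE : c ∈ E := le_normalizer_of_mem hm hd.1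
  have h2 : m' * cm e f * m'⁻¹ = f' * c * f'⁻¹ := by
    calc m' * cm e f * m'⁻¹ = f' * (m * (m⁻¹ * f'⁻¹ * m' * cm e f * (m⁻¹ * f'⁻¹ * m')⁻¹) * m⁻¹) *
          f'⁻¹ := by group
      _ = _ := by rw [h1]
  rw [h2]
  have h3 : f' * c * f'⁻¹ = c * cm c⁻¹ f' := by simp only [cm]; group
  rw [h3]
  rcases h.cm_cases hs he heF hf hfE (inv_mem hcE) hf' with h4 | h4 <;> rw [h4]
  · exact Or.inl (mul_one c)
  · exact Or.inr rfl

end NPair

/-- Data of a member of `gam`. -/
theorem gam_data (hs : AllSmall hA S) {c : G} (hc : c ∈ gam hA S) :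
    ∃ E F : Subgroup G, NPair hA S E F ∧ c ∈ E ∧ c ∉ F ∧ c * c = 1 ∧
      ∃ e ∈ E, e ∉ F ∧ ∃ f ∈ F, f ∉ E ∧ ∃ n ∈ normalizer (E : Set G),
        c = n * cm e f * n⁻¹ := by
  obtain ⟨E, F, h, hcE, hcF, e', he', f', hf', n, hn, rfl⟩ := hc
  refine ⟨E, F, h, hcE, hcF, ?_, e', he', fun heF => hcF ?_, f', hf', fun hfE => hcF ?_, n, hn, rfl⟩
  · calc n * cm e' f' * n⁻¹ * (n * cm e' f' * n⁻¹) = n * (cm e' f' * cm e' f') * n⁻¹ := by group
      _ = 1 := by rw [h.twin.left.cm_sq he' hf']; group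
  · rw [h.cm_eq_one_left (mem_inf.2 ⟨he', heF⟩) hf']; simp
  · rw [h.cm_eq_one_right he' (mem_inf.2 ⟨hfE, hf'⟩)]; simp

theorem gam_le (hs : AllSmall hA S) {c : G} (hc : c ∈ gam hA S) : c ∈ (S : Subgroup G) := by
  obtain ⟨E, F, h, hcE, -⟩ := gam_data hs hc
  exact h.twin.left.candE.le hcE

theorem npair_eq {E' F' : Subgroup G} (h : NPair hA S E F) (h' : NPair hA S E' F') {c c' : G}
    (hc : c ∈ E) (hcF : c ∉ F) (hc' : c' ∈ E') (hcF' : c' ∉ F') (hcc : c * c' = c' * c) :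
    E' = E ∧ F' ⊓ E' = F ⊓ E := by
  have h1 : c' ∈ E := h.mem_of_commute hc hcF (h'.twin.left.candE.le hc') hcc.symm
  have h2 : c ∈ E' := h'.mem_of_commute hc' hcF' (h.twin.left.candE.le hc) hcc
  have hE : E' = E := le_antisymm
    (fun x hx => h.mem_of_commute hc hcF (h'.twin.left.candE.le hx)
      (h'.twin.left.candE.comm x hx c h2))
    fun x hx => h'.mem_of_commute hc' hcF' (h.twin.left.candE.le hx)
      (h.twin.left.candE.comm x hx c' h1)
  subst hE
  refine ⟨rfl, ?_⟩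
  ext z
  rw [inf_comm F', inf_comm F, h'.twin.mem_inf_iff, h.twin.mem_inf_iff]

/-- No element centralising two members `c`, `b` with `bcb` commuting with `c` squares to `[c, b]`. -/
theorem gam_noSqrt (hs : AllSmall hA S) {c b y : G} (hc : c ∈ gam hA S) (hb : b ∈ gam hA S)
    (hcc : c * (b * c * b) = b * c * b * c) (hncb : ¬ c * b = b * c) (hy : y ∈ (S : Subgroup G))
    (hyc : y * c = c * y) (hyb : y * b = b * y) : y * y ≠ c * (b * c * b) := by
  intro hyy
  obtain ⟨E, F, h, hcE, hcF, hc2, e, he, heF, f, hf, hfE, n, hn, hcn⟩ := gam_data hs hc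
  have hb2 : (b : G) * b = 1 := by
    obtain ⟨E', F', -, -, -, h2, -⟩ := gam_data hs hb
    exact h2
  have hbi : (b : G)⁻¹ = b := inv_eq_of_mul_eq_one_right hb2
  have hc'g : (b : G) * c * b ∈ gam hA S := by
    have := gam_conj (le_normalizer (gam_le hs hb)) hc
    rwa [hbi] at this
  have hcom : (c : G) * ((b : G) * c * b) = (b : G) * c * b * c := hcc
  have hc'E : (b : G) * c * b ∈ E := h.mem_of_commute hcE hcF (gam_le hs hc'g) hcom.symm
  obtain ⟨E', F', h', hc'E', hc'F', -, e', he', heF', f', hf', hfE', n', hn', hc'n⟩ :=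
    gam_data hs hc'g
  obtain ⟨rfl, hZ⟩ := npair_eq h h' hcE hcF hc'E' hc'F' hcom
  have hbN : (b : G) ∈ normalizer (E' : Set G) := by
    refine mem_normalizer_fintype fun x hx => ?_
    refine h.mem_of_commute hcE hcF
      (mul_mem (mul_mem (gam_le hs hb) (h.twin.left.candE.le hx)) (inv_mem (gam_le hs hb))) ?_
    rw [hbi]
    calc (b : G) * x * b * c = b * (x * (b * c * b)) * b := by
          rw [show (b : G) * (x * (b * c * b)) * b = b * x * b * c * (b * b) by group, hb2, mul_one]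
      _ = b * ((b * c * b) * x) * b := by rw [h.twin.left.candE.comm x hx _ hc'E]
      _ = (b * b) * c * (b * x * b) := by group
      _ = _ := by rw [hb2, one_mul]
  obtain ⟨e₁, he₁, f₁, hf₁, hbef⟩ := h.twin.left.exists_mul (mem_inf.2 ⟨gam_le hs hb, hbN⟩)
  have hf₁E : f₁ ∉ E' := fun hfE1 => hncb ((by
    exact h.twin.left.candE.comm (c : G) hcE b (hbef ▸ mul_mem he₁ hfE1)))
  have hyE : (y : G) ∈ E' := h.mem_of_commute hcE hcF (hy) (hyc)
  have hyZ : (y : G) ∈ F := by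
    refine h.twin.left.mem_of_commute hyE hf₁ hf₁E ?_
    have h1 : (y : G) * b = b * y := hyb
    rw [hbef, ← mul_assoc, h.twin.left.candE.comm _ hyE e₁ he₁, mul_assoc, mul_assoc] at h1
    exact mul_left_cancel h1
  have hyy' := hyy
  refine heF (h.twin.left.mem_of_cm_core he hf hfE ?_)
  have hd : cm e f = (c : G) * ((b : G) * c * b) := by
    have hFF : F' = F := by
      obtain ⟨a, ha, haE, haa⟩ := h'.twin.symm.exists_notMem
      have hsub : F' ≤ uS S E' := h'.twin.uS_eq ▸ h'.twin.right.candE.le_uS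
      refine (h.twin.eq_or_eq h'.twin.left.cand hsub ha haa fun hh => haE hh.1).resolve_left ?_
      exact fun e0 => h'.twin.left.ne e0.symm
    subst hFF
    have hd' := (h.cm_cases hs he heF hf hfE he' hf').resolve_left fun h1 =>
      heF' (h'.twin.left.mem_of_commute he' hf' hfE' (cm_eq_one_iff.1 h1))
    rw [hd'] at hc'n
    rw [hcn] at hcF
    rw [hc'n] at hc'F'
    rcases h.gam_pair hs he heF hf hfE hn hn' hcF hc'F' with h4 | h4
    · exfalso
      rw [← hcn, ← hc'n] at h4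
      refine hncb ?_
      calc (c : G) * b = (b : G) * c * b * b := by rw [h4]
        _ = b * c := by rw [mul_assoc, hb2, mul_one]
    · rw [← hcn, ← hc'n] at h4
      rw [h4, ← mul_assoc, hc2, one_mul]
  rw [hd, ← hyy']
  exact h.twin.left.sq_mem_core (mem_inf.2 ⟨hyE, hyZ⟩)

/-- The hypotheses of `Soft` for `gam`. -/
theorem soft (hs : AllSmall hA S) (hne : (gam hA S).Nonempty) :
    Soft.Hyp {c : ↥(closure (gam hA S)) | (c : G) ∈ gam hA S} := by
  have hle : closure (gam hA S) ≤ (S : Subgroup G) := (closure_le _).2 fun c hc => gam_le hs hc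
  have hval : ∀ {a b : ↥(closure (gam hA S))}, Commute a b → (a : G) * b = b * a := fun h =>
    congrArg Subtype.val h.eq
  have hof : ∀ {a b : ↥(closure (gam hA S))}, (a : G) * b = b * a → Commute a b := fun h =>
    Subtype.ext h
  constructor
  · exact S.2.to_le hle
  · obtain ⟨c, hc⟩ := hne
    exact ⟨⟨c, subset_closure hc⟩, hc⟩
  · exact closure_closure_coe_preimage
  · intro c hc
    obtain ⟨E, F, -, -, -, hcc, -⟩ := gam_data hs hc
    exact Subtype.ext hcc
  · exact fun s c hc => gam_conj (le_normalizer (hle s.2)) hc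
  · intro c hc x y hx hy
    obtain ⟨E, F, h, hcE, hcF, -⟩ := gam_data hs hc
    exact hof (h.twin.left.candE.comm _ (h.mem_of_commute hcE hcF (hle x.2) (hval hx)) _
      (h.mem_of_commute hcE hcF (hle y.2) (hval hy)))
  · intro c hc c₁ hc₁ c₂ hc₂ h1 h2 n1 n2
    obtain ⟨E, F, h, hcE, hcF, -, e, he, heF, f, hf, hfE, n, hn, hcn⟩ := gam_data hs hc
    have key : ∀ b : ↥(closure (gam hA S)), (b : G) ∈ gam hA S → Commute c b → b ≠ c →
        (b : G) = (c : G) * cm e f := by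
      intro b hb hcb hbc
      obtain ⟨E', F', h', hbE, hbF, -, e', he', heF', f', hf', hfE', n', hn', hbn⟩ := gam_data hs hb
      obtain ⟨rfl, hZ⟩ := npair_eq h h' hcE hcF hbE hbF (hval hcb)
      have hU' : uS S F = uS S F' := by rw [h.twin.uS_eq, h'.twin.uS_eq]
      have hFF : F' = F := by
        obtain ⟨a, ha, haE, haa⟩ := h'.twin.symm.exists_notMem
        have hsub : F' ≤ uS S E' := h'.twin.uS_eq ▸ h'.twin.right.candE.le_uS
        refine (h.twin.eq_or_eq h'.twin.left.cand hsub ha haa fun hh => haE hh.1).resolve_left ?_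
        exact fun e0 => h'.twin.left.ne e0.symm
      subst hFF
      have hd := (h.cm_cases hs he heF hf hfE he' hf').resolve_left fun h1 =>
        heF' (h'.twin.left.mem_of_commute he' hf' hfE' (cm_eq_one_iff.1 h1))
      rw [hd] at hbn
      rw [hbn] at hbF
      rw [hcn] at hcF
      rcases h.gam_pair hs he heF hf hfE hn hn' hcF hbF with h4 | h4
      · exact absurd (Subtype.ext (by rw [hbn, h4, ← hcn])) hbc
      · rw [hbn, h4, ← hcn]
    exact Subtype.ext ((key c₁ hc₁ h1 n1).trans (key c₂ hc₂ h2 n2).symm)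
  · exact fun c hc b hb hcc hncb y hyc hyb hyy => gam_noSqrt hs hc hb (hval hcc)
      (fun h => hncb (hof h)) (hle y.2) (hval hyc) (hval hyb) (congrArg Subtype.val hyy)

/-- Elements of odd order normalising `S` fix `gam`. -/
theorem fix_gam (hs : AllSmall hA S) {n : G} (hn : n ∈ normalizer ((S : Subgroup G) : Set G))
    {m : ℕ} (hm : Odd m) (hnm : n ^ m = 1) {c : G} (hc : c ∈ gam hA S) : n * c * n⁻¹ = c := by
  have hD : ∀ k ∈ normalizer ((S : Subgroup G) : Set G), ∀ x ∈ closure (gam hA S),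
      k * x * k⁻¹ ∈ closure (gam hA S) := fun k hk x hx => by
    have h1 : (closure (gam hA S)).map (MulAut.conj k).toMonoidHom ≤ closure (gam hA S) := by
      rw [MonoidHom.map_closure, closure_le]
      rintro _ ⟨y, hy, rfl⟩
      exact subset_closure (gam_conj hk hy)
    exact h1 ⟨x, hx, rfl⟩
  have hnN : n ∈ normalizer (closure (gam hA S) : Set G) :=
    mem_normalizer_fintype fun x hx => hD n hn x hx
  set σ : MulAut ↥(closure (gam hA S)) := normalizerMonoidHom _ ⟨n, hnN⟩ with hσ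
  have hσm : σ ^ m = 1 := by
    rw [hσ, ← map_pow]
    convert map_one (normalizerMonoidHom (closure (gam hA S)))
    exact Subtype.ext hnm
  have := (Soft.main _ _ _ le_rfl (soft hs ⟨c, hc⟩)).2 σ (fun d hd => gam_conj hn hd)
    ⟨m, hm, hσm⟩ ⟨c, subset_closure hc⟩ hc
  exact congrArg Subtype.val this

end Cfsg.Agent.Lib.AbelInter85
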